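import Cfsg.Prelude.Def_ParabolicCharacters
import Cfsg.Prelude.Def_Characters
import Cfsg.Agent.Lib.CharDeep.PermChar
import Mathlib.GroupTheory.GroupAction.Quotient

/-!
# Inner products of transitive permutation characters count double cosets
-/

set_option autoImplicit false

namespace CfsgLib.KnownA.GLFlags

open MulAction

variable {G : Type*} [Group G]

/-- A system of representatives of the double cosets `H \ G / K`, indexed by `X`. -/
structure IsDoubleCosetRep (H K : Subgroup G) {X : Type*} (rep : X → G) : Prop where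
  surj : ∀ g : G, ∃ x, ∃ h ∈ H, ∃ k ∈ K, g = h * rep x * k
  inj : ∀ x y, ∀ h ∈ H, ∀ k ∈ K, rep y = h * rep x * k → x = y

theorem sum_fixed_mul_fixed [Fintype G] {H K : Subgroup G} {X : Type*} {rep : X → G}
    (hrep : IsDoubleCosetRep H K rep) :
    ∑ g : G, Cfsg.fixedPointCharacter H g * Cfsg.fixedPointCharacter K g =
      (Nat.card X : ℂ) * Nat.card G := by
  classical
  let Y := (G ⧸ H) × (G ⧸ K)
  let F : X → Quotient (orbitRel G Y) := fun x => Quotient.mk'' (((1 : G) : G ⧸ H), ((rep x : G) : G ⧸ K))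
  have hbij : Function.Bijective F := by
    constructor
    · intro x y hxy
      obtain ⟨g, hg⟩ := Quotient.exact' hxy
      have h1 : g • (((1 : G)) : G ⧸ H) = (((1 : G)) : G ⧸ H) := congrArg Prod.fst hg
      have h2 : g • ((rep y : G) : G ⧸ K) = ((rep x : G) : G ⧸ K) := congrArg Prod.snd hg
      rw [MulAction.Quotient.smul_coe, QuotientGroup.eq, smul_eq_mul, mul_one, mul_one] at h1
      rw [MulAction.Quotient.smul_coe, QuotientGroup.eq, smul_eq_mul] at h2
      exact (hrep.inj y x g (by simpa using H.inv_mem h1) _ h2 (by group)).symm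
    · rintro ⟨a, b⟩
      obtain ⟨a, rfl⟩ := QuotientGroup.mk_surjective a
      obtain ⟨b, rfl⟩ := QuotientGroup.mk_surjective b
      obtain ⟨x, h, hh, k, hk, e⟩ := hrep.surj (a⁻¹ * b)
      refine ⟨x, Quotient.sound' ⟨(a * h)⁻¹, ?_⟩⟩
      refine Prod.ext ?_ ?_
      · change (a * h)⁻¹ • (a : G ⧸ H) = (((1 : G)) : G ⧸ H)
        rw [MulAction.Quotient.smul_coe, QuotientGroup.eq, smul_eq_mul]
        have : ((a * h)⁻¹ * a)⁻¹ * 1 = h := by group
        rw [this]; exact hh
      · change (a * h)⁻¹ • (b : G ⧸ K) = ((rep x : G) : G ⧸ K)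
        rw [MulAction.Quotient.smul_coe, QuotientGroup.eq, smul_eq_mul]
        have : ((a * h)⁻¹ * b)⁻¹ * rep x = k⁻¹ := by
          have e' : b = a * (h * rep x * k) := by rw [← e]; group
          rw [e']; group
        rw [this]; exact K.inv_mem hk
  have key : ∀ g : G, Cfsg.fixedPointCharacter H g * Cfsg.fixedPointCharacter K g =
      ((Fintype.card (fixedBy Y g) : ℕ) : ℂ) := by
    intro g
    rw [Cfsg.fixedPointCharacter, Cfsg.fixedPointCharacter, ← Nat.cast_mul, ← Nat.card_prod,
      ← Nat.card_eq_fintype_card]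
    congr 1
    exact Nat.card_congr
      { toFun := fun p => ⟨(p.1.1, p.2.1), Prod.ext p.1.2 p.2.2⟩
        invFun := fun z => (⟨z.1.1, congrArg Prod.fst z.2⟩, ⟨z.1.2, congrArg Prod.snd z.2⟩)
        left_inv := fun p => rfl
        right_inv := fun z => rfl }
  rw [Finset.sum_congr rfl fun g _ => key g, ← Nat.cast_sum,
    MulAction.sum_card_fixedBy_eq_card_orbits_mul_card_group, Nat.cast_mul,
    Nat.card_eq_fintype_card (α := G)]
  congr 2
  rw [← Nat.card_eq_fintype_card]
  exact (Nat.card_congr (Equiv.ofBijective F hbij)).symm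

theorem fixedPointCharacter_isCharacter [Fintype G] (H : Subgroup G) :
    Cfsg.IsCharacter G (Cfsg.fixedPointCharacter H) := by
  have h : Cfsg.fixedPointCharacter H = Cfsg.indFun H (fun _ => 1) := by
    rw [CfsgLib.CharDeep.PermChar.indFun_one_fun_eq]
    rfl
  rw [h]
  exact CfsgLib.Char.IsCharacter.indFun (H := H) CfsgLib.Char.isCharacter_one

theorem conj_fixedPointCharacter (H : Subgroup G) (g : G) :
    (starRingEnd ℂ) (Cfsg.fixedPointCharacter H g) = Cfsg.fixedPointCharacter H g := by
  simp [Cfsg.fixedPointCharacter]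

theorem classInner_fixedPointCharacter [Fintype G] {H K : Subgroup G} {X : Type*} {rep : X → G}
    (hrep : IsDoubleCosetRep H K rep) :
    Cfsg.classInner (Cfsg.fixedPointCharacter H) (Cfsg.fixedPointCharacter K) =
      (Nat.card X : ℂ) := by
  rw [Cfsg.classInner]
  simp only [conj_fixedPointCharacter]
  rw [sum_fixed_mul_fixed hrep, mul_comm (Nat.card X : ℂ), inv_mul_cancel_left₀]
  simp

end CfsgLib.KnownA.GLFlags
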