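import Mathlib.LinearAlgebra.Matrix.Block
import Mathlib.LinearAlgebra.Matrix.GeneralLinearGroup.Defs
import Mathlib.LinearAlgebra.Matrix.Rank

/-!
# Triangular decomposition `g = b σ b'` of an invertible matrix
-/

set_option autoImplicit false

namespace CfsgLib.KnownA.GLFlags

open Finset Matrix

variable {n : ℕ} {F : Type*} [Field F]

/-- The matrix of a permutation, sending `e_j` to `e_{σ j}`. -/
def permM (F : Type*) [Field F] (σ : Equiv.Perm (Fin n)) : Matrix (Fin n) (Fin n) F :=
  Matrix.of fun i j => if i = σ j then 1 else 0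

theorem permM_apply (σ : Equiv.Perm (Fin n)) (i j : Fin n) :
    permM F σ i j = if i = σ j then 1 else 0 := rfl

theorem permM_one : permM F (1 : Equiv.Perm (Fin n)) = 1 := by
  ext i j
  rw [permM_apply, Matrix.one_apply]
  rfl

theorem permM_mul (σ τ : Equiv.Perm (Fin n)) : permM F σ * permM F τ = permM F (σ * τ) := by
  ext i j
  rw [Matrix.mul_apply, Finset.sum_eq_single (τ j) (fun m _ hm => by simp [permM_apply, hm])
    (fun hh => absurd (Finset.mem_univ _) hh)]
  simp only [permM_apply, if_true, mul_one, Equiv.Perm.mul_apply]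
  rfl

/-- Permutations as invertible matrices. -/
def permGL (F : Type*) [Field F] : Equiv.Perm (Fin n) →* GL (Fin n) F where
  toFun σ := ⟨permM F σ, permM F σ⁻¹, by rw [permM_mul, mul_inv_cancel, permM_one],
    by rw [permM_mul, inv_mul_cancel, permM_one]⟩
  map_one' := Units.ext permM_one
  map_mul' σ τ := Units.ext (permM_mul σ τ).symm

theorem coe_permGL (σ : Equiv.Perm (Fin n)) :
    (permGL F σ : Matrix (Fin n) (Fin n) F) = permM F σ := rfl

/-- Invertible upper triangular matrices. -/
def UpperInv (M : Matrix (Fin n) (Fin n) F) : Prop := M.BlockTriangular id ∧ IsUnit M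

theorem upperInv_one : UpperInv (1 : Matrix (Fin n) (Fin n) F) :=
  ⟨blockTriangular_one, isUnit_one⟩

theorem UpperInv.mul {M N : Matrix (Fin n) (Fin n) F} (hM : UpperInv M) (hN : UpperInv N) :
    UpperInv (M * N) :=
  ⟨hM.1.mul hN.1, hM.2.mul hN.2⟩

theorem upperInv_of_diag {M : Matrix (Fin n) (Fin n) F} (h : M.BlockTriangular id)
    (hd : ∀ i, M i i ≠ 0) : UpperInv M := by
  refine ⟨h, (Matrix.isUnit_iff_isUnit_det M).2 (isUnit_iff_ne_zero.2 ?_)⟩
  rw [Matrix.det_of_isUpperTriangular h]
  exact Finset.prod_ne_zero_iff.2 fun i _ => hd i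

theorem exists_upperInv_step {M : Matrix (Fin n) (Fin n) F} (hM : IsUnit M) :
    ∀ k : ℕ, k ≤ n → ∃ (U V : Matrix (Fin n) (Fin n) F) (r : Fin n → Fin n),
      UpperInv U ∧ UpperInv V ∧
      (∀ (i j : Fin n), (j : ℕ) < k → (U * M * V) i j = if i = r j then 1 else 0) ∧
      (∀ (j l : Fin n), (j : ℕ) < k → k ≤ (l : ℕ) → (U * M * V) (r j) l = 0) := by
  intro k
  induction k with
  | zero =>
    exact fun _ => ⟨1, 1, id, upperInv_one, upperInv_one, fun i j h => absurd h (by omega),
      fun j l h => absurd h (by omega)⟩
  | succ k ih =>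
    intro hk
    obtain ⟨U, V, r, hU, hV, h1, h2⟩ := ih (by omega)
    set A := U * M * V with hA
    let c : Fin n := ⟨k, by omega⟩
    have hAu : IsUnit A := (hU.2.mul hM).mul hV.2
    classical
    have hne : ({i | A i c ≠ 0} : Finset (Fin n)).Nonempty := by
      by_contra hc
      rw [Finset.not_nonempty_iff_eq_empty, Finset.filter_eq_empty_iff] at hc
      have : A.det = 0 := Matrix.det_eq_zero_of_column_eq_zero c fun i => by
        by_contra h; exact hc (Finset.mem_univ i) h
      exact ((Matrix.isUnit_iff_isUnit_det A).1 hAu).ne_zero this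
    obtain ⟨p, hp, hmax⟩ : ∃ p, A p c ≠ 0 ∧ ∀ i, A i c ≠ 0 → i ≤ p := by
      classical
      refine ⟨_, (Finset.mem_filter.1 (Finset.max'_mem _ hne)).2, fun i hi => ?_⟩
      exact Finset.le_max' _ i (Finset.mem_filter.2 ⟨Finset.mem_univ i, hi⟩)
    have hpr : ∀ j : Fin n, (j : ℕ) < k → p ≠ r j := fun j hj e => hp (by
      rw [e]; exact h2 j c hj le_rfl)
    let U1 : Matrix (Fin n) (Fin n) F := Matrix.of fun i l =>
      if l = p then (if i = p then (A p c)⁻¹ else -(A i c * (A p c)⁻¹)) else if i = l then 1 else 0
    have hU1 : UpperInv U1 := by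
      refine upperInv_of_diag (fun i l hli => ?_) (fun i => ?_)
      · have hli' : l < i := hli
        simp only [U1, Matrix.of_apply]
        split_ifs with a b b
        · subst a b; exact absurd hli' (lt_irrefl _)
        · subst a
          by_contra h
          have : A i c ≠ 0 := fun h0 => h (by simp [h0])
          exact absurd (hmax i this) (not_le.2 hli')
        · subst b; exact absurd hli' (lt_irrefl _)
        · rfl
      · simp only [U1, Matrix.of_apply]
        split_ifs with a
        · exact inv_ne_zero hp
        · exact one_ne_zero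
    set B := U1 * A with hB
    have hBe : ∀ i l, B i l =
        if i = p then (A p c)⁻¹ * A p l else A i l - A i c * (A p c)⁻¹ * A p l := by
      intro i l
      simp only [hB, Matrix.mul_apply, U1, Matrix.of_apply]
      by_cases h : i = p
      · subst h
        rw [Finset.sum_eq_single i (fun m _ hm => by simp [hm, Ne.symm hm])
          (fun hh => absurd (Finset.mem_univ _) hh)]
        simp
      · rw [← Finset.add_sum_erase _ _ (Finset.mem_univ p),
          Finset.sum_eq_single i
            (fun m hm hm' => by simp [(Finset.mem_erase.1 hm).1, Ne.symm hm'])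
            (fun hh => absurd (Finset.mem_erase.2 ⟨h, Finset.mem_univ _⟩) hh)]
        simp [h]
        ring
    have hBc : ∀ i, B i c = if i = p then 1 else 0 := by
      intro i
      rw [hBe]
      split_ifs with h
      · exact inv_mul_cancel₀ hp
      · field_simp
        simp
    have hBl : ∀ i j, (j : Fin n) < c → B i j = if i = r j then 1 else 0 := by
      intro i j hj
      have hz : A p j = 0 := by rw [h1 p j hj, if_neg (hpr j hj)]
      rw [hBe, hz]
      by_cases h : i = p
      · subst h
        rw [if_pos rfl, if_neg (hpr j hj), mul_zero]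
      · rw [if_neg h, h1 i j hj, mul_zero, sub_zero]
    let V1 : Matrix (Fin n) (Fin n) F := Matrix.of fun m l =>
      if m = c then (if l = c then 1 else if c < l then -B p l else 0) else if m = l then 1 else 0
    have hV1 : UpperInv V1 := by
      refine upperInv_of_diag (fun m l hlm => ?_) (fun m => ?_)
      · have hlm' : l < m := hlm
        simp only [V1, Matrix.of_apply]
        split_ifs with a b b' d
        · subst a b; exact absurd hlm' (lt_irrefl _)
        · subst a; exact absurd b' (not_lt.2 hlm'.le)
        · rfl
        · subst d; exact absurd hlm' (lt_irrefl _)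
        · rfl
      · simp only [V1, Matrix.of_apply]
        split_ifs <;> exact one_ne_zero
    have hC : ∀ i l, (B * V1) i l = if c < l then B i l - B i c * B p l else B i l := by
      intro i l
      simp only [Matrix.mul_apply, V1, Matrix.of_apply]
      by_cases h : l = c
      · subst h
        rw [Finset.sum_eq_single c (fun m _ hm => by simp [hm])
          (fun hh => absurd (Finset.mem_univ _) hh), if_neg (lt_irrefl _)]
        simp
      · rw [← Finset.add_sum_erase _ _ (Finset.mem_univ c),
          Finset.sum_eq_single l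
            (fun m hm hm' => by simp [(Finset.mem_erase.1 hm).1, hm'])
            (fun hh => absurd (Finset.mem_erase.2 ⟨h, Finset.mem_univ _⟩) hh)]
        by_cases hl : c < l
        · simp [h, hl]; ring
        · simp [h, hl]
    have hfin : U1 * U * M * (V * V1) = B * V1 := by
      simp only [hB, hA, Matrix.mul_assoc]
    refine ⟨U1 * U, V * V1, Function.update r c p, hU1.mul hU, hV.mul hV1, ?_, ?_⟩
    · intro i j hj
      rw [hfin, hC]
      by_cases hjc : j = c
      · subst hjc
        simp [hBc]
      · have hjlt : j < c := by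
          have : (j : ℕ) ≠ k := fun e => hjc (Fin.ext e)
          exact show (j : ℕ) < k by omega
        rw [if_neg (not_lt.2 hjlt.le), hBl i j hjlt, Function.update_of_ne hjc]
    · intro j l hj hl
      have hcl : c < l := show k < (l : ℕ) by omega
      rw [hfin, hC, if_pos hcl, hBc]
      by_cases hjc : j = c
      · subst hjc
        simp
      · have hjlt : (j : ℕ) < k := by
          have : (j : ℕ) ≠ k := fun e => hjc (Fin.ext e)
          omega
        rw [Function.update_of_ne hjc, hBe, if_neg (Ne.symm (hpr j hjlt)),
          if_neg (Ne.symm (hpr j hjlt)), h2 j l hjlt (by omega), h2 j c hjlt le_rfl]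
        simp

/-- Every invertible matrix is `b σ b'` with `b`, `b'` upper triangular. -/
theorem exists_upper_perm_upper (g : GL (Fin n) F) :
    ∃ (b b' : GL (Fin n) F) (σ : Equiv.Perm (Fin n)),
      (b : Matrix (Fin n) (Fin n) F).BlockTriangular id ∧
      (b' : Matrix (Fin n) (Fin n) F).BlockTriangular id ∧ g = b * permGL F σ * b' := by
  obtain ⟨U, V, r, hU, hV, h1, -⟩ := exists_upperInv_step g.isUnit n le_rfl
  have hu : IsUnit (U * (g : Matrix (Fin n) (Fin n) F) * V) := (hU.2.mul g.isUnit).mul hV.2
  have hinj : Function.Injective r := by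
    intro j j' e
    by_contra hne
    have : (U * (g : Matrix (Fin n) (Fin n) F) * V).det = 0 :=
      Matrix.det_zero_of_column_eq hne fun i => by
        rw [h1 i j j.isLt, h1 i j' j'.isLt, e]
    exact ((Matrix.isUnit_iff_isUnit_det _).1 hu).ne_zero this
  let σ : Equiv.Perm (Fin n) := Equiv.ofBijective r (Finite.injective_iff_bijective.1 hinj)
  let u : GL (Fin n) F := hU.2.unit
  let v : GL (Fin n) F := hV.2.unit
  have he : u * g * v = permGL F σ := by
    apply Units.ext
    ext i j
    exact h1 i j j.isLt
  refine ⟨u⁻¹, v⁻¹, σ, ?_, ?_, by rw [← he]; group⟩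
  · have : Invertible (u : Matrix (Fin n) (Fin n) F) := u.invertible
    rw [Matrix.coe_units_inv]
    exact Matrix.blockTriangular_inv_of_blockTriangular hU.1
  · have : Invertible (v : Matrix (Fin n) (Fin n) F) := v.invertible
    rw [Matrix.coe_units_inv]
    exact Matrix.blockTriangular_inv_of_blockTriangular hV.1

theorem rank_mask_permM (σ : Equiv.Perm (Fin n)) (s t : Fin n → Prop) [DecidablePred s]
    [DecidablePred t] :
    (Matrix.diagonal (fun i => if s i then (1 : F) else 0) * permM F σ *
      Matrix.diagonal (fun j => if t j then (1 : F) else 0)).rank = #{j | s (σ j) ∧ t j} := by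
  classical
  set D := Matrix.diagonal (fun i => if s i then (1 : F) else 0) * permM F σ *
      Matrix.diagonal (fun j => if t j then (1 : F) else 0) with hD
  let w : Fin n → F := fun j => if s (σ j) ∧ t j then 1 else 0
  have hDe : ∀ i j, D i j = if i = σ j then w j else 0 := by
    intro i j
    simp only [hD, Matrix.mul_diagonal, Matrix.diagonal_mul, permM_apply, w]
    by_cases h : i = σ j
    · subst h
      by_cases hs : s (σ j) <;> by_cases ht : t j <;> simp [hs, ht]
    · simp [h]
  have h1 : D.transpose * D = Matrix.diagonal w := by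
    ext j l
    simp only [Matrix.mul_apply, Matrix.transpose_apply, hDe, Matrix.diagonal_apply]
    rw [Finset.sum_eq_single (σ j) (fun i _ hi => by simp [hi])
      (fun hh => absurd (Finset.mem_univ _) hh)]
    by_cases hjl : j = l
    · subst hjl
      by_cases h : s (σ j) ∧ t j <;> simp [w, h]
    · simp [hjl]
  have h2 : D * Matrix.diagonal w = D := by
    ext i j
    simp only [Matrix.mul_diagonal, hDe]
    by_cases h : s (σ j) ∧ t j <;> by_cases hi : i = σ j <;> simp [w, h, hi]
  have hle1 : (Matrix.diagonal w).rank ≤ D.rank := by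
    rw [← h1]; exact Matrix.rank_mul_le_right _ _
  have hle2 : D.rank ≤ (Matrix.diagonal w).rank := by
    conv_lhs => rw [← h2]
    exact Matrix.rank_mul_le_right _ _
  rw [le_antisymm hle2 hle1, Matrix.rank_diagonal, Fintype.card_subtype]
  refine congrArg Finset.card (Finset.filter_congr fun j _ => ?_)
  by_cases h : s (σ j) ∧ t j <;> simp [w, h]

end CfsgLib.KnownA.GLFlags
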