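import Mathlib.LinearAlgebra.Vandermonde
import Mathlib.Algebra.Polynomial.Reverse
import Mathlib.Algebra.BigOperators.Fin

/-!
# The Cauchy determinant with cleared denominators
-/

set_option autoImplicit false

namespace CfsgLib.KnownA.GLFlags

open Finset Polynomial Matrix

variable {n : ℕ} {R : Type*} [CommRing R]

theorem natDegree_prod_X_sub_C_le {ι : Type*} (s : Finset ι) (y : ι → R) :
    (∏ k ∈ s, (X - C (y k))).natDegree ≤ s.card := by
  refine (Polynomial.natDegree_prod_le _ _).trans ?_
  refine le_of_le_of_eq (Finset.sum_le_sum fun k _ => Polynomial.natDegree_X_sub_C_le (y k)) ?_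
  simp

theorem reflect_prod_X_sub_C {ι : Type*} [DecidableEq ι] (s : Finset ι) (y : ι → R) :
    reflect s.card (∏ k ∈ s, (X - C (y k))) = ∏ k ∈ s, (1 - C (y k) * X) := by
  induction s using Finset.induction with
  | empty =>
    rw [Finset.prod_empty, Finset.prod_empty, Finset.card_empty, ← map_one (C : R →+* R[X]),
      reflect_C, pow_zero, mul_one]
  | insert a s ha ih =>
    have h1 : reflect 1 (X - C (y a)) = 1 - C (y a) * X := by
      rw [reflect_sub, reflect_C, pow_one]
      congr 1
      simpa using reflect_monomial (R := R) 1 1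
    rw [Finset.prod_insert ha, Finset.prod_insert ha, Finset.card_insert_of_notMem ha, ← ih, ← h1,
      add_comm s.card 1]
    exact reflect_mul _ _ (Polynomial.natDegree_X_sub_C_le _) (natDegree_prod_X_sub_C_le s y)

theorem card_erase_univ_fin (j : Fin n) : ((univ : Finset (Fin n)).erase j).card = n - 1 := by
  simp [Finset.card_erase_of_mem]

theorem eval_eq_sum_rev {p : R[X]} (j : Fin n) (hp : p.natDegree ≤ n - 1) (x : R) :
    p.eval x = ∑ m : Fin n, x ^ (m.rev : ℕ) * p.coeff (m.rev : ℕ) := by
  rw [Polynomial.eval_eq_sum_range' (n := n) (by have := j.isLt; omega), ← Fin.sum_univ_eq_sum_range]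
  refine Fintype.sum_equiv Fin.revPerm _ _ fun m => ?_
  simp [Fin.revPerm, mul_comm]

/-- The coefficient matrix of the polynomials `∏_{k ≠ j} (X - y k)`. -/
noncomputable def cauchyCoeff (y : Fin n → R) : Matrix (Fin n) (Fin n) R :=
  Matrix.of fun m j => (∏ k ∈ univ.erase j, (X - C (y k))).coeff (m.rev : ℕ)

theorem vandermonde_mul_cauchyCoeff (x y : Fin n → R) :
    vandermonde x * cauchyCoeff y =
      Matrix.of fun i j => ∏ k ∈ univ.erase j, (1 - x i * y k) := by
  ext i j
  set Q : R[X] := ∏ k ∈ univ.erase j, (X - C (y k)) with hQ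
  have hQd : Q.natDegree ≤ n - 1 := by
    rw [hQ, ← card_erase_univ_fin j]; exact natDegree_prod_X_sub_C_le _ _
  have hP : reflect (n - 1) Q = ∏ k ∈ univ.erase j, (1 - C (y k) * X) := by
    rw [hQ, ← card_erase_univ_fin j, reflect_prod_X_sub_C]
  have hPd : (reflect (n - 1) Q).natDegree ≤ n - 1 := by
    rw [Polynomial.natDegree_le_iff_coeff_eq_zero]
    intro N hN
    rw [coeff_reflect, Polynomial.revAt_eq_self_of_lt hN,
      Polynomial.coeff_eq_zero_of_natDegree_lt (lt_of_le_of_lt hQd hN)]
  have he := eval_eq_sum_rev j hPd (x i)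
  rw [hP, Polynomial.eval_prod] at he
  simp only [eval_sub, eval_one, eval_mul, eval_C, eval_X] at he
  rw [Matrix.of_apply, Matrix.mul_apply]
  calc ∑ m, vandermonde x i m * cauchyCoeff y m j
      = ∑ m : Fin n, x i ^ (m.rev : ℕ) * (reflect (n - 1) Q).coeff (m.rev : ℕ) := by
        refine Fintype.sum_equiv Fin.revPerm _ _ fun m => ?_
        simp only [Fin.revPerm_apply, Fin.rev_rev, vandermonde_apply, cauchyCoeff, Matrix.of_apply,
          coeff_reflect]
        congr 2
        rw [Polynomial.revAt_le (by have := m.isLt; omega), Fin.val_rev]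
        omega
    _ = ∏ k ∈ univ.erase j, (1 - x i * y k) := by
        rw [hP, ← he]
        exact Finset.prod_congr rfl fun k _ => by ring

theorem projVandermonde_mul_cauchyCoeff (y : Fin n → R) :
    projVandermonde (1 : Fin n → R) y * cauchyCoeff y =
      Matrix.diagonal fun j => ∏ k ∈ univ.erase j, (y j - y k) := by
  ext i j
  set Q : R[X] := ∏ k ∈ univ.erase j, (X - C (y k)) with hQ
  have hQd : Q.natDegree ≤ n - 1 := by
    rw [hQ, ← card_erase_univ_fin j]; exact natDegree_prod_X_sub_C_le _ _
  have he := eval_eq_sum_rev j hQd (y i)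
  rw [Matrix.mul_apply]
  have h : ∑ m, projVandermonde (1 : Fin n → R) y i m * cauchyCoeff y m j = Q.eval (y i) := by
    rw [he]
    refine Finset.sum_congr rfl fun m _ => ?_
    simp [projVandermonde_apply, cauchyCoeff, hQ]
  rw [h, hQ, Polynomial.eval_prod]
  simp only [eval_sub, eval_C, eval_X]
  by_cases hij : i = j
  · subst hij; rw [Matrix.diagonal_apply_eq]
  · rw [Matrix.diagonal_apply_ne _ hij]
    exact Finset.prod_eq_zero (Finset.mem_erase.2 ⟨hij, mem_univ i⟩) (sub_self _)

theorem prod_erase_sub (y : Fin n → R) :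
    ∏ j : Fin n, ∏ k ∈ univ.erase j, (y j - y k) =
      (vandermonde y).det * (projVandermonde (1 : Fin n → R) y).det := by
  classical
  rw [det_vandermonde, det_projVandermonde]
  have hsplit : ∀ j : Fin n, univ.erase j = Finset.Iio j ∪ Finset.Ioi j := by
    intro j
    ext k
    simp
  have hdisj : ∀ j : Fin n, Disjoint (Finset.Iio j) (Finset.Ioi j) := fun j =>
    Finset.disjoint_left.2 fun k h1 h2 => by
      simp only [Finset.mem_Iio, Finset.mem_Ioi] at h1 h2
      exact lt_asymm h1 h2
  rw [Finset.prod_congr rfl fun j _ => by rw [hsplit j, Finset.prod_union (hdisj j)],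
    Finset.prod_mul_distrib]
  congr 1
  · rw [Finset.prod_comm' (t' := univ) (s' := fun i => Finset.Ioi i)]
    intro j i
    simp
  · exact Finset.prod_congr rfl fun j _ => Finset.prod_congr rfl fun k _ => by simp

/-- The Cauchy determinant. -/
theorem det_cauchy [IsDomain R] (x : Fin n → R) {y : Fin n → R} (hy : Function.Injective y) :
    (Matrix.of fun i j => ∏ k ∈ univ.erase j, (1 - x i * y k)).det =
      (vandermonde x).det * (vandermonde y).det := by
  have hW : (projVandermonde (1 : Fin n → R) y).det ≠ 0 := by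
    rw [det_projVandermonde]
    refine Finset.prod_ne_zero_iff.2 fun i _ => Finset.prod_ne_zero_iff.2 fun j hj => ?_
    simp only [Pi.one_apply, one_mul]
    exact sub_ne_zero.2 fun e => (Finset.mem_Ioi.1 hj).ne (hy e)
  have hC : (cauchyCoeff y).det = (vandermonde y).det := by
    refine mul_left_cancel₀ hW ?_
    rw [← det_mul, projVandermonde_mul_cauchyCoeff, det_diagonal, prod_erase_sub, mul_comm]
  rw [← vandermonde_mul_cauchyCoeff, det_mul, hC]

end CfsgLib.KnownA.GLFlags
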