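import Cfsg.Agent.Lib.KnownA.GLFlags.Sym
import Cfsg.Agent.Lib.KnownA.GLFlags.Bruhat

/-!
# Double cosets of parabolic subgroups of `GL_n`
-/

set_option autoImplicit false

namespace CfsgLib.KnownA.GLFlags

open Finset Matrix

variable {n : ℕ} {F : Type*} [Field F]

/-- Block upper triangular invertible matrices for a labelling. -/
def blockGL (F : Type*) [Field F] (f : Fin n → Fin n) : Subgroup (GL (Fin n) F) where
  carrier := {g | (g : Matrix (Fin n) (Fin n) F).BlockTriangular f}
  mul_mem' := fun {a} {b} ha hb => by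
    change ((a : Matrix (Fin n) (Fin n) F) * (b : Matrix (Fin n) (Fin n) F)).BlockTriangular f
    exact Matrix.BlockTriangular.mul ha hb
  one_mem' := by
    change (1 : Matrix (Fin n) (Fin n) F).BlockTriangular f
    exact Matrix.blockTriangular_one
  inv_mem' := fun {a} ha => by
    change ((a⁻¹ : GL (Fin n) F) : Matrix (Fin n) (Fin n) F).BlockTriangular f
    have : Invertible (a : Matrix (Fin n) (Fin n) F) := a.invertible
    rw [Matrix.coe_units_inv]
    exact Matrix.blockTriangular_inv_of_blockTriangular ha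

theorem mem_blockGL {f : Fin n → Fin n} {g : GL (Fin n) F} :
    g ∈ blockGL F f ↔ (g : Matrix (Fin n) (Fin n) F).BlockTriangular f := Iff.rfl

theorem blockGL_mem_of_upper {f : Fin n → Fin n} (hf : Monotone f) {g : GL (Fin n) F}
    (hg : (g : Matrix (Fin n) (Fin n) F).BlockTriangular id) : g ∈ blockGL F f :=
  fun i j hij => hg (lt_of_not_ge fun h : i ≤ j => absurd (hf h) (not_le.2 hij))

theorem permGL_mem_blockGL {f : Fin n → Fin n} {σ : Equiv.Perm (Fin n)}
    (hσ : σ ∈ labelStab f) : permGL F σ ∈ blockGL F f := fun i j hij => by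
  rw [coe_permGL, permM_apply, if_neg]
  rintro rfl
  rw [mem_labelStab.1 hσ j] at hij
  exact lt_irrefl _ hij

section Rank

variable (F) in
/-- The matrix keeping the indices in `s`. -/
def mask (s : Fin n → Prop) [DecidablePred s] : Matrix (Fin n) (Fin n) F :=
  Matrix.diagonal fun i => if s i then 1 else 0

theorem mask_mul_left {f : Fin n → Fin n} {p : Matrix (Fin n) (Fin n) F}
    (hp : p.BlockTriangular f) (a : ℕ) :
    mask F (fun i => a ≤ (f i : ℕ)) * p * mask F (fun i => a ≤ (f i : ℕ)) =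
      mask F (fun i => a ≤ (f i : ℕ)) * p := by
  ext i l
  simp only [mask, Matrix.mul_diagonal, Matrix.diagonal_mul]
  by_cases hi : a ≤ (f i : ℕ) <;> by_cases hl : a ≤ (f l : ℕ) <;> simp [hi, hl]
  rw [hp (show f l < f i from Fin.lt_def.2 (by omega))]

theorem mask_mul_right {f : Fin n → Fin n} {p : Matrix (Fin n) (Fin n) F}
    (hp : p.BlockTriangular f) (b : ℕ) :
    mask F (fun i => (f i : ℕ) < b) * p * mask F (fun i => (f i : ℕ) < b) =
      p * mask F (fun i => (f i : ℕ) < b) := by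
  ext l j
  simp only [mask, Matrix.mul_diagonal, Matrix.diagonal_mul]
  by_cases hl : (f l : ℕ) < b <;> by_cases hj : (f j : ℕ) < b <;> simp [hl, hj]
  rw [hp (show f j < f l from Fin.lt_def.2 (by omega))]

/-- The rank of a corner of a matrix. -/
noncomputable def cornerRank (fα fβ : Fin n → Fin n) (g : Matrix (Fin n) (Fin n) F) (a b : ℕ) : ℕ :=
  (mask F (fun i => a ≤ (fα i : ℕ)) * g * mask F (fun j => (fβ j : ℕ) < b)).rank

theorem cornerRank_mul_le {fα fβ : Fin n → Fin n} {p p' g : Matrix (Fin n) (Fin n) F}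
    (hp : p.BlockTriangular fα) (hp' : p'.BlockTriangular fβ) (a b : ℕ) :
    cornerRank fα fβ (p * g * p') a b ≤ cornerRank fα fβ g a b := by
  set E := mask F (fun i => a ≤ (fα i : ℕ))
  set F' := mask F (fun j => (fβ j : ℕ) < b)
  have h : E * (p * g * p') * F' = (E * p) * (E * g * F') * (p' * F') := by
    calc E * (p * g * p') * F' = (E * p) * g * (p' * F') := by
          simp only [Matrix.mul_assoc]
      _ = (E * p * E) * g * (F' * p' * F') := by
          rw [mask_mul_left hp a, mask_mul_right hp' b]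
      _ = (E * p) * (E * g * F') * (p' * F') := by simp only [Matrix.mul_assoc]
  unfold cornerRank
  rw [h]
  exact (Matrix.rank_mul_le_left _ _).trans (Matrix.rank_mul_le_right _ _)

theorem cornerRank_invariant {fα fβ : Fin n → Fin n} {h k g : GL (Fin n) F}
    (hh : h ∈ blockGL F fα) (hk : k ∈ blockGL F fβ) (a b : ℕ) :
    cornerRank fα fβ ((h * g * k : GL (Fin n) F) : Matrix (Fin n) (Fin n) F) a b =
      cornerRank fα fβ (g : Matrix (Fin n) (Fin n) F) a b := by
  refine le_antisymm ?_ ?_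
  · rw [Units.val_mul, Units.val_mul]
    exact cornerRank_mul_le hh hk a b
  · have e : g = h⁻¹ * (h * g * k) * k⁻¹ := by group
    conv_lhs => rw [e, Units.val_mul, Units.val_mul]
    exact cornerRank_mul_le (inv_mem hh) (inv_mem hk) a b

theorem cornerRank_permGL (fα fβ : Fin n → Fin n) (σ : Equiv.Perm (Fin n)) (a b : ℕ) :
    cornerRank fα fβ (permGL F σ : Matrix (Fin n) (Fin n) F) a b =
      #{j | a ≤ (fα (σ j) : ℕ) ∧ (fβ j : ℕ) < b} :=
  rank_mask_permM σ (fun i => a ≤ (fα i : ℕ)) (fun j => (fβ j : ℕ) < b)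

theorem interMat_eq_of_corner {fα fβ : Fin n → Fin n} {σ τ : Equiv.Perm (Fin n)}
    (h : ∀ a b : ℕ, #{j | a ≤ (fα (σ j) : ℕ) ∧ (fβ j : ℕ) < b} =
      #{j | a ≤ (fα (τ j) : ℕ) ∧ (fβ j : ℕ) < b}) :
    interMat fα fβ σ = interMat fα fβ τ := by
  have key : ∀ (σ : Equiv.Perm (Fin n)) (a b : Fin n),
      interMat fα fβ σ a b + #{j | (a : ℕ) + 1 ≤ (fα (σ j) : ℕ) ∧ (fβ j : ℕ) < (b : ℕ) + 1} +
        #{j | (a : ℕ) ≤ (fα (σ j) : ℕ) ∧ (fβ j : ℕ) < (b : ℕ)} =
      #{j | (a : ℕ) ≤ (fα (σ j) : ℕ) ∧ (fβ j : ℕ) < (b : ℕ) + 1} +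
        #{j | (a : ℕ) + 1 ≤ (fα (σ j) : ℕ) ∧ (fβ j : ℕ) < (b : ℕ)} := by
    intro σ a b
    simp only [interMat, Finset.card_filter, ← Finset.sum_add_distrib]
    refine Finset.sum_congr rfl fun j _ => ?_
    have e1 : fβ j = b ↔ (fβ j : ℕ) = (b : ℕ) := Fin.ext_iff
    have e2 : fα (σ j) = a ↔ (fα (σ j) : ℕ) = (a : ℕ) := Fin.ext_iff
    simp only [e1, e2]
    split_ifs <;> omega
  funext a b
  have h1 := key σ a b
  have h2 := key τ a b
  rw [h, h, h, h] at h1
  omega

end Rank

theorem isDoubleCosetRep_blockGL {fα fβ : Fin n → Fin n} (hα : Monotone fα) (hβ : Monotone fβ) :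
    IsDoubleCosetRep (blockGL F fα) (blockGL F fβ)
      (fun N : Margins (fibreCard fα) (fibreCard fβ) => permGL F (marginsRep N)) where
  surj := fun g => by
    obtain ⟨b, b', σ, hb, hb', rfl⟩ := exists_upper_perm_upper g
    refine ⟨interMargins fα fβ σ, ?_⟩
    obtain ⟨h, hh, k, hk, e⟩ := exists_eq_of_interMat_eq
      (interMat_marginsRep (interMargins fα fβ σ))
    refine ⟨b * permGL F h, mul_mem (blockGL_mem_of_upper hα hb) (permGL_mem_blockGL hh),
      permGL F k * b', mul_mem (permGL_mem_blockGL hk) (blockGL_mem_of_upper hβ hb'), ?_⟩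
    conv_lhs => rw [e, map_mul, map_mul]
    group
  inj := fun x y h hh k hk e => by
    have hxy : interMat fα fβ (marginsRep y) = interMat fα fβ (marginsRep x) :=
      interMat_eq_of_corner fun a b => by
        rw [← cornerRank_permGL (F := F), ← cornerRank_permGL (F := F), e,
          cornerRank_invariant hh hk]
    rw [interMat_marginsRep, interMat_marginsRep] at hxy
    exact (Subtype.ext hxy).symm

end CfsgLib.KnownA.GLFlags
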