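import Cfsg.Agent.Lib.KnownA.GLFlags.Labels
import Mathlib.LinearAlgebra.Matrix.GeneralLinearGroup.Card

/-!
# The index of a parabolic subgroup
-/

set_option autoImplicit false

namespace CfsgLib.KnownA.GLFlags

open Finset Matrix

/-- The `q`-integer. -/
def qint (q r : ℕ) : ℕ := ∑ l ∈ Finset.range r, q ^ l

/-- The `q`-factorial. -/
def qfac (q r : ℕ) : ℕ := ∏ j ∈ Finset.range r, qint q (j + 1)

theorem qint_pos {q r : ℕ} (hq : 0 < q) (hr : 0 < r) : 0 < qint q r :=
  Finset.sum_pos (fun l _ => Nat.pow_pos hq) ⟨0, Finset.mem_range.2 hr⟩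

theorem qfac_pos {q : ℕ} (hq : 0 < q) (r : ℕ) : 0 < qfac q r :=
  Finset.prod_pos fun j _ => qint_pos hq (Nat.succ_pos j)

theorem qfac_succ (q a : ℕ) : qfac q (a + 1) = qfac q a * qint q (a + 1) :=
  Finset.prod_range_succ _ _

theorem sub_one_mul_qint {q : ℕ} (hq : 1 ≤ q) (r : ℕ) : (q - 1) * qint q r + 1 = q ^ r := by
  induction r with
  | zero => simp [qint]
  | succ r ih =>
    rw [qint, Finset.sum_range_succ, ← qint, pow_succ, mul_add, add_right_comm, ih]
    obtain ⟨q, rfl⟩ : ∃ p, q = p + 1 := ⟨q - 1, by omega⟩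
    rw [Nat.add_sub_cancel]
    ring

theorem glCard_eq {q : ℕ} (hq : 1 ≤ q) (m : ℕ) :
    ∏ i : Fin m, (q ^ m - q ^ (i : ℕ)) =
      q ^ (∑ i ∈ Finset.range m, i) * (q - 1) ^ m * qfac q m := by
  rw [Fin.prod_univ_eq_prod_range (fun i => q ^ m - q ^ i) m, ← Finset.prod_pow_eq_pow_sum]
  have hrev : qfac q m = ∏ i ∈ Finset.range m, qint q (m - i) := by
    rw [qfac, ← Finset.prod_range_reflect (fun j => qint q (j + 1)) m]
    exact Finset.prod_congr rfl fun j hj => by
      rw [Finset.mem_range] at hj
      congr 1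
      omega
  rw [hrev]
  have hc : (q - 1) ^ m = ∏ _i ∈ Finset.range m, (q - 1) := by simp
  rw [hc, ← Finset.prod_mul_distrib, ← Finset.prod_mul_distrib]
  refine Finset.prod_congr rfl fun i hi => ?_
  rw [Finset.mem_range] at hi
  have h := sub_one_mul_qint hq (m - i)
  have hm : q ^ m = q ^ i * q ^ (m - i) := by rw [← pow_add]; congr 1; omega
  rw [hm, ← h, mul_add, mul_one, Nat.add_sub_cancel, mul_assoc]

theorem card_GL_index {F : Type*} [Field F] [Fintype F] {ι : Type*} [Fintype ι] [DecidableEq ι] :
    Nat.card (GL ι F) =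
      ∏ i : Fin (Fintype.card ι), (Fintype.card F ^ Fintype.card ι - Fintype.card F ^ (i : ℕ)) := by
  rw [← Matrix.card_GL_field]
  exact Nat.card_congr (Units.mapEquiv
    (Matrix.reindexAlgEquiv F F (Fintype.equivFin ι)).toMulEquiv).toEquiv

variable {n : ℕ} {F : Type*} [Field F]

/-- Pairs of indices above the block diagonal. -/
abbrev AbovePair (f : Fin n → Fin n) : Type := {p : Fin n × Fin n // f p.1 < f p.2}

/-- Assembles a block triangular matrix. -/
def assemble (f : Fin n → Fin n) (B : ∀ a, Matrix {i // f i = a} {i // f i = a} F)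
    (U : AbovePair f → F) : Matrix (Fin n) (Fin n) F :=
  Matrix.of fun i j => if h : f i < f j then U ⟨(i, j), h⟩
    else if h' : f i = f j then B (f j) ⟨i, h'⟩ ⟨j, rfl⟩ else 0

theorem assemble_blockTriangular (f : Fin n → Fin n)
    (B : ∀ a, Matrix {i // f i = a} {i // f i = a} F) (U : AbovePair f → F) :
    (assemble f B U).BlockTriangular f := fun i j hij => by
  simp only [assemble, Matrix.of_apply]
  rw [dif_neg (lt_asymm hij), dif_neg hij.ne']

theorem assemble_square (f : Fin n → Fin n)
    (B : ∀ a, Matrix {i // f i = a} {i // f i = a} F) (U : AbovePair f → F) (a : Fin n) :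
    (assemble f B U).toSquareBlock f a = B a := by
  ext ⟨i, hi⟩ ⟨j, hj⟩
  simp only [Matrix.toSquareBlock_def, Matrix.of_apply, assemble]
  rw [dif_neg (by rw [hi, hj]; exact lt_irrefl a), dif_pos (hi.trans hj.symm)]
  subst hj
  rfl

/-- Coordinates on the group of block triangular matrices. -/
noncomputable def blockGLEquiv (f : Fin n → Fin n) :
    blockGL F f ≃ (∀ a, GL {i // f i = a} F) × (AbovePair f → F) where
  toFun g := (fun a => Matrix.GeneralLinearGroup.mkOfDetNeZero
      ((g.1 : Matrix (Fin n) (Fin n) F).toSquareBlock f a) (by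
        have h := (mem_blockGL.1 g.2).det_fintype
        have hne := g.1.det_ne_zero
        rw [h] at hne
        exact Finset.prod_ne_zero_iff.1 hne a (Finset.mem_univ a)),
    fun p => (g.1 : Matrix (Fin n) (Fin n) F) p.1.1 p.1.2)
  invFun x := ⟨Matrix.GeneralLinearGroup.mkOfDetNeZero
      (assemble f (fun a => (x.1 a : Matrix {i // f i = a} {i // f i = a} F)) x.2) (by
        rw [(assemble_blockTriangular f _ _).det_fintype]
        refine Finset.prod_ne_zero_iff.2 fun a _ => ?_
        rw [assemble_square]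
        exact (x.1 a).det_ne_zero),
    by
      change Matrix.BlockTriangular (assemble f (fun a => (x.1 a : Matrix _ _ F)) x.2) f
      exact assemble_blockTriangular f _ _⟩
  left_inv g := by
    apply Subtype.ext
    apply Units.ext
    ext i j
    change assemble f (fun a => (g.1 : Matrix (Fin n) (Fin n) F).toSquareBlock f a)
      (fun p => (g.1 : Matrix (Fin n) (Fin n) F) p.1.1 p.1.2) i j =
        (g.1 : Matrix (Fin n) (Fin n) F) i j
    simp only [assemble, Matrix.of_apply]
    split_ifs with h h'
    · rfl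
    · rfl
    · exact (mem_blockGL.1 g.2 (lt_of_le_of_ne (not_lt.1 h) (Ne.symm h'))).symm
  right_inv x := by
    refine Prod.ext (funext fun a => Units.ext ?_) (funext fun p => ?_)
    · change (assemble f (fun a => (x.1 a : Matrix {i // f i = a} {i // f i = a} F)) x.2).toSquareBlock
        f a = _
      exact assemble_square f _ _ a
    · change assemble f (fun a => (x.1 a : Matrix {i // f i = a} {i // f i = a} F)) x.2 p.1.1 p.1.2 =
        x.2 p
      simp only [assemble, Matrix.of_apply]
      rw [dif_pos p.2]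

theorem card_blockGL [Fintype F] (f : Fin n → Fin n) :
    Nat.card (blockGL F f) =
      (∏ a, ∏ i : Fin (fibreCard f a), (Fintype.card F ^ fibreCard f a - Fintype.card F ^ (i : ℕ))) *
        Fintype.card F ^ Nat.card (AbovePair f) := by
  rw [Nat.card_congr (blockGLEquiv f), Nat.card_prod, Nat.card_pi, Nat.card_fun,
    Nat.card_eq_fintype_card (α := F)]
  congr 1
  refine Finset.prod_congr rfl fun a _ => ?_
  rw [card_GL_index, Fintype.card_subtype]
  rfl

theorem two_mul_sum_range (m : ℕ) : 2 * (∑ i ∈ Finset.range m, i) + m = m * m := by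
  induction m with
  | zero => simp
  | succ m ih => rw [Finset.sum_range_succ]; ring_nf; ring_nf at ih; omega

theorem above_add_blocks (f : Fin n → Fin n) :
    Nat.card (AbovePair f) + ∑ a, ∑ i ∈ Finset.range (fibreCard f a), i =
      ∑ i ∈ Finset.range n, i := by
  have hsum : ∑ a, fibreCard f a = n := by
    unfold fibreCard
    rw [← Finset.card_eq_sum_card_fiberwise fun _ _ => Finset.mem_univ _]
    simp
  have hsq : #{p : Fin n × Fin n | f p.1 = f p.2} = ∑ a, fibreCard f a * fibreCard f a := by
    rw [Finset.card_eq_sum_card_fiberwise (f := fun p : Fin n × Fin n => f p.1) (t := univ)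
      fun _ _ => Finset.mem_univ _]
    refine Finset.sum_congr rfl fun a _ => ?_
    rw [fibreCard, ← Finset.card_product]
    congr 1
    ext ⟨i, j⟩
    simp only [Finset.mem_filter, Finset.mem_univ, true_and, Finset.mem_product]
    constructor
    · rintro ⟨e, rfl⟩; exact ⟨rfl, e.symm⟩
    · rintro ⟨rfl, e⟩; exact ⟨e.symm, rfl⟩
  have hswap : #{p : Fin n × Fin n | f p.2 < f p.1} = #{p : Fin n × Fin n | f p.1 < f p.2} := by
    refine Finset.card_equiv (Equiv.prodComm _ _) fun p => ?_
    simp
  have htot : #{p : Fin n × Fin n | f p.1 < f p.2} + #{p : Fin n × Fin n | f p.2 < f p.1} +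
      #{p : Fin n × Fin n | f p.1 = f p.2} = n * n := by
    rw [Finset.card_filter, Finset.card_filter, Finset.card_filter, ← Finset.sum_add_distrib,
      ← Finset.sum_add_distrib]
    calc ∑ p : Fin n × Fin n, ((if f p.1 < f p.2 then 1 else 0) +
            (if f p.2 < f p.1 then 1 else 0) + (if f p.1 = f p.2 then 1 else 0))
        = ∑ _p : Fin n × Fin n, 1 := Finset.sum_congr rfl fun p _ => by
          rcases lt_trichotomy (f p.1) (f p.2) with h | h | h
          · simp [h, h.not_gt, h.ne]
          · simp [h]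
          · simp [h, h.not_gt, h.ne']
      _ = n * n := by simp
  have h1 : 2 * (∑ a, ∑ i ∈ Finset.range (fibreCard f a), i) + n =
      ∑ a, fibreCard f a * fibreCard f a := by
    rw [Finset.mul_sum]
    conv_lhs => arg 2; rw [← hsum]
    rw [← Finset.sum_add_distrib]
    exact Finset.sum_congr rfl fun a _ => two_mul_sum_range _
  have h2 := two_mul_sum_range n
  rw [Nat.card_eq_fintype_card, Fintype.card_subtype]
  omega

/-- The index of a standard parabolic subgroup. -/
theorem index_blockGL [Fintype F] (f : Fin n → Fin n) :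
    Nat.card (GL (Fin n) F ⧸ blockGL F f) * ∏ a, qfac (Fintype.card F) (fibreCard f a) =
      qfac (Fintype.card F) n := by
  classical
  set q := Fintype.card F with hq
  have hq1 : 1 ≤ q := Fintype.card_pos
  have hq2 : 2 ≤ q := Fintype.one_lt_card
  have h := Subgroup.card_eq_card_quotient_mul_card_subgroup (blockGL F f)
  rw [Matrix.card_GL_field, ← hq, glCard_eq hq1, card_blockGL, ← hq] at h
  simp only [glCard_eq hq1, Finset.prod_mul_distrib] at h
  rw [Finset.prod_pow_eq_pow_sum, Finset.prod_pow_eq_pow_sum] at h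
  have hsum : ∑ a, fibreCard f a = n := by
    unfold fibreCard
    rw [← Finset.card_eq_sum_card_fiberwise fun _ _ => Finset.mem_univ _]
    simp
  rw [hsum, ← above_add_blocks f, pow_add] at h
  have hne : q ^ Nat.card (AbovePair f) * q ^ (∑ a, ∑ i ∈ Finset.range (fibreCard f a), i) *
      (q - 1) ^ n ≠ 0 := by
    have : q - 1 ≠ 0 := by omega
    positivity
  refine mul_left_cancel₀ hne ?_
  linarith [h]

theorem parabolic_index [Fintype F] (μ : Fin n → ℕ) (hμ : ∑ i, μ i = n) :
    Nat.card (GL (Fin n) F ⧸ Cfsg.parabolicGL n F μ) * ∏ a, qfac (Fintype.card F) (μ a) =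
      qfac (Fintype.card F) n := by
  have h := index_blockGL (F := F) (label μ hμ)
  rw [fibreCard_label] at h
  rw [parabolicGL_eq μ hμ]
  exact h

end CfsgLib.KnownA.GLFlags
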