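import Cfsg.Agent.Lib.KnownA.GLFlags.Cosets

/-!
# The labelling of a composition
-/

set_option autoImplicit false

namespace CfsgLib.KnownA.GLFlags

open Finset

variable {n : ℕ} {F : Type*} [Field F]

/-- Total of the parts before position `a`. -/
def preSum (μ : Fin n → ℕ) (a : Fin n) : ℕ := ∑ k ∈ univ.filter (fun k : Fin n => k < a), μ k

theorem sum_le_eq_preSum (μ : Fin n → ℕ) (a : Fin n) :
    ∑ k ∈ univ.filter (fun k : Fin n => k ≤ a), μ k = preSum μ a + μ a := by
  classical
  have h : univ.filter (fun k : Fin n => k ≤ a) = insert a (univ.filter (fun k : Fin n => k < a)) := by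
    ext k
    simp [le_iff_eq_or_lt]
  rw [h, Finset.sum_insert (by simp), preSum, add_comm]

theorem preSum_add_le_preSum (μ : Fin n → ℕ) {a b : Fin n} (h : a < b) :
    preSum μ a + μ a ≤ preSum μ b := by
  rw [← sum_le_eq_preSum, preSum]
  refine Finset.sum_le_sum_of_subset fun k hk => ?_
  simp only [mem_filter, mem_univ, true_and] at hk ⊢
  exact lt_of_le_of_lt hk h

theorem preSum_add_le_sum (μ : Fin n → ℕ) (a : Fin n) : preSum μ a + μ a ≤ ∑ i, μ i := by
  rw [← sum_le_eq_preSum]
  exact Finset.sum_le_univ_sum_of_nonneg fun i => Nat.zero_le _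

theorem compLabel_monotone (μ : Fin n → ℕ) : Monotone (Cfsg.compLabel μ) := by
  intro i j hij
  refine Finset.card_le_card fun k hk => ?_
  simp only [mem_filter, mem_univ, true_and] at hk ⊢
  exact hk.trans hij

theorem compLabel_eq_of_mem (μ : Fin n → ℕ) {i a : Fin n} (h1 : preSum μ a ≤ (i : ℕ))
    (h2 : (i : ℕ) < preSum μ a + μ a) : Cfsg.compLabel μ i = (a : ℕ) := by
  rw [Cfsg.compLabel, show univ.filter
      (fun j : Fin n => ∑ k ∈ univ.filter (fun k : Fin n => k ≤ j), μ k ≤ (i : ℕ)) = Finset.Iio a from ?_,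
    Fin.card_Iio]
  ext j
  simp only [mem_filter, mem_univ, true_and, Finset.mem_Iio, sum_le_eq_preSum]
  constructor
  · intro hj
    by_contra hc
    rcases eq_or_lt_of_le (le_of_not_gt hc) with e | e
    · subst e; omega
    · have := preSum_add_le_preSum μ e; omega
  · intro hj
    have := preSum_add_le_preSum μ hj
    omega

theorem compLabel_lt (μ : Fin n → ℕ) (hμ : ∑ i, μ i = n) (i : Fin n) :
    Cfsg.compLabel μ i < n := by
  have hn : 0 < n := Nat.lt_of_le_of_lt (Nat.zero_le _) i.isLt
  let last : Fin n := ⟨n - 1, by omega⟩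
  have : Cfsg.compLabel μ i ≤ (univ.erase last).card := by
    refine Finset.card_le_card fun j hj => ?_
    simp only [mem_filter, mem_univ, true_and] at hj
    rw [Finset.mem_erase]
    refine ⟨fun e => ?_, mem_univ _⟩
    subst e
    have hall : univ.filter (fun k : Fin n => k ≤ last) = univ := by
      ext k
      simp only [mem_filter, mem_univ, true_and, iff_true]
      exact Fin.le_def.2 (by simp only [last]; omega)
    rw [hall, hμ] at hj
    omega
  rw [Finset.card_erase_of_mem (mem_univ _), Finset.card_univ, Fintype.card_fin] at this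
  omega

/-- The labelling of a composition, with values in `Fin n`. -/
def label (μ : Fin n → ℕ) (hμ : ∑ i, μ i = n) (i : Fin n) : Fin n :=
  ⟨Cfsg.compLabel μ i, compLabel_lt μ hμ i⟩

theorem label_monotone (μ : Fin n → ℕ) (hμ : ∑ i, μ i = n) : Monotone (label μ hμ) :=
  fun _ _ h => compLabel_monotone μ h

theorem fibreCard_label (μ : Fin n → ℕ) (hμ : ∑ i, μ i = n) : fibreCard (label μ hμ) = μ := by
  have hle : ∀ a, μ a ≤ fibreCard (label μ hμ) a := by
    intro a
    have hb := preSum_add_le_sum μ a
    calc μ a = (univ : Finset (Fin (μ a))).card := by simp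
      _ ≤ _ := by
        refine Finset.card_le_card_of_injOn
          (fun k => ⟨preSum μ a + k, by omega⟩) (fun k _ => ?_) fun k _ l _ e => ?_
        · simp only [Finset.coe_filter, mem_univ, true_and, Set.mem_setOf_eq]
          exact Fin.ext (compLabel_eq_of_mem μ (Nat.le_add_right _ _) (by simp))
        · simpa [Fin.ext_iff] using e
  have hsum : ∑ a, fibreCard (label μ hμ) a = n := by
    unfold fibreCard
    rw [← Finset.card_eq_sum_card_fiberwise fun _ _ => mem_univ _]
    simp
  funext a
  exact ((Finset.sum_eq_sum_iff_of_le fun b _ => hle b).1 (hμ.trans hsum.symm) a (mem_univ a)).symm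

theorem parabolicGL_eq (μ : Fin n → ℕ) (hμ : ∑ i, μ i = n) :
    Cfsg.parabolicGL n F μ = blockGL F (label μ hμ) :=
  SetLike.ext fun _ => Iff.rfl

theorem youngSubgroup_eq (μ : Fin n → ℕ) (hμ : ∑ i, μ i = n) :
    Cfsg.youngSubgroup μ = labelStab (label μ hμ) := by
  ext σ
  rw [mem_labelStab]
  change (∀ i, Cfsg.compLabel μ (σ i) = Cfsg.compLabel μ i) ↔ _
  exact forall_congr' fun i => ⟨fun h => Fin.ext h, fun h => congrArg Fin.val h⟩

/-- Inner products of flag characters count matrices with given margins. -/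
theorem classInner_parabolic [Fintype F] [DecidableEq F] (μ μ' : Fin n → ℕ) (hμ : ∑ i, μ i = n)
    (hμ' : ∑ i, μ' i = n) :
    Cfsg.classInner (Cfsg.fixedPointCharacter (Cfsg.parabolicGL n F μ))
      (Cfsg.fixedPointCharacter (Cfsg.parabolicGL n F μ')) = (Nat.card (Margins μ μ') : ℂ) := by
  rw [parabolicGL_eq μ hμ, parabolicGL_eq μ' hμ',
    classInner_fixedPointCharacter
      (isDoubleCosetRep_blockGL (label_monotone μ hμ) (label_monotone μ' hμ')),
    fibreCard_label, fibreCard_label]

theorem classInner_young (μ μ' : Fin n → ℕ) (hμ : ∑ i, μ i = n) (hμ' : ∑ i, μ' i = n) :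
    Cfsg.classInner (Cfsg.fixedPointCharacter (Cfsg.youngSubgroup μ))
      (Cfsg.fixedPointCharacter (Cfsg.youngSubgroup μ')) = (Nat.card (Margins μ μ') : ℂ) := by
  rw [youngSubgroup_eq μ hμ, youngSubgroup_eq μ' hμ',
    classInner_fixedPointCharacter (isDoubleCosetRep_labelStab (label μ hμ) (label μ' hμ')),
    fibreCard_label, fibreCard_label]

end CfsgLib.KnownA.GLFlags
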