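import Cfsg.Agent.Lib.KnownA.GLFlags.Orbits
import Cfsg.Prelude.Def_LinearParabolics

/-!
# Double cosets of Young subgroups and matrices with given margins
-/

set_option autoImplicit false

namespace CfsgLib.KnownA.GLFlags

open Finset

variable {n : ℕ}

/-- The subgroup of permutations preserving a labelling. -/
def labelStab (f : Fin n → Fin n) : Subgroup (Equiv.Perm (Fin n)) where
  carrier := {σ | ∀ i, f (σ i) = f i}
  mul_mem' := fun {a} {b} ha hb i => by
    change f (a (b i)) = f i
    rw [ha, hb]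
  one_mem' := fun _ => rfl
  inv_mem' := fun {a} ha i => by
    have h := ha (a⁻¹ i)
    simpa using h.symm

theorem mem_labelStab {f : Fin n → Fin n} {σ : Equiv.Perm (Fin n)} :
    σ ∈ labelStab f ↔ ∀ i, f (σ i) = f i := Iff.rfl

/-- The fibre sizes of a labelling. -/
def fibreCard (f : Fin n → Fin n) (a : Fin n) : ℕ := #{i | f i = a}

/-- Matrices of natural numbers with prescribed row and column sums. -/
abbrev Margins {ι : Type*} [Fintype ι] (r c : ι → ℕ) : Type _ :=
  {N : ι → ι → ℕ // (∀ a, ∑ b, N a b = r a) ∧ (∀ b, ∑ a, N a b = c b)}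

/-- The intersection matrix of a permutation. -/
def interMat (fα fβ : Fin n → Fin n) (σ : Equiv.Perm (Fin n)) (a b : Fin n) : ℕ :=
  #{i | fβ i = b ∧ fα (σ i) = a}

theorem interMat_margins (fα fβ : Fin n → Fin n) (σ : Equiv.Perm (Fin n)) :
    (∀ a, ∑ b, interMat fα fβ σ a b = fibreCard fα a) ∧
      (∀ b, ∑ a, interMat fα fβ σ a b = fibreCard fβ b) := by
  constructor
  · intro a
    have h : fibreCard fα a = #{i | fα (σ i) = a} := by
      refine (Finset.card_equiv σ fun i => ?_).symm
      simp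
    rw [h, Finset.card_eq_sum_card_fiberwise (f := fβ) (t := univ) (fun i _ => mem_univ _)]
    refine Finset.sum_congr rfl fun b _ => ?_
    rw [interMat, Finset.filter_filter]
    exact congrArg Finset.card (Finset.filter_congr fun i _ => and_comm)
  · intro b
    rw [fibreCard, Finset.card_eq_sum_card_fiberwise (f := fun i => fα (σ i)) (t := univ)
      (fun i _ => mem_univ _)]
    refine Finset.sum_congr rfl fun a _ => ?_
    rw [interMat, Finset.filter_filter]

theorem interMat_mul_mul {fα fβ : Fin n → Fin n} {σ h k : Equiv.Perm (Fin n)}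
    (hh : h ∈ labelStab fα) (hk : k ∈ labelStab fβ) :
    interMat fα fβ (h * σ * k) = interMat fα fβ σ := by
  funext a b
  refine Finset.card_equiv k fun i => ?_
  simp only [mem_filter, mem_univ, true_and, Equiv.Perm.mul_apply, mem_labelStab.1 hh,
    mem_labelStab.1 hk]

theorem exists_eq_of_interMat_eq {fα fβ : Fin n → Fin n} {σ σ' : Equiv.Perm (Fin n)}
    (he : interMat fα fβ σ = interMat fα fβ σ') :
    ∃ h ∈ labelStab fα, ∃ k ∈ labelStab fβ, σ' = h * σ * k := by
  have hc : ∀ p : Fin n × Fin n, Nonempty ({i // (fα (σ i), fβ i) = p} ≃ {i // (fα (σ' i), fβ i) = p}) := by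
    rintro ⟨a, b⟩
    refine ⟨Fintype.equivOfCardEq ?_⟩
    rw [Fintype.card_subtype, Fintype.card_subtype]
    have := congrFun (congrFun he a) b
    simpa [interMat, Prod.ext_iff, and_comm] using this
  let e : Equiv.Perm (Fin n) := Equiv.ofFiberEquiv fun p => (hc p).some
  have he' : ∀ i, (fα (σ' (e i)), fβ (e i)) = (fα (σ i), fβ i) := fun i =>
    Equiv.ofFiberEquiv_map (g := fun i => (fα (σ' i), fβ i)) (fun p => (hc p).some) i
  refine ⟨σ' * e * σ⁻¹, fun i => ?_, e⁻¹, ?_, by group⟩
  · have := congrArg Prod.fst (he' (σ⁻¹ i))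
    simpa using this
  · refine inv_mem (fun i => ?_)
    exact congrArg Prod.snd (he' i)

theorem exists_interMat_eq {fα fβ : Fin n → Fin n}
    (N : Margins (fibreCard fα) (fibreCard fβ)) :
    ∃ σ : Equiv.Perm (Fin n), interMat fα fβ σ = N.1 := by
  obtain ⟨N, hr, hc⟩ := N
  let T := Σ p : Fin n × Fin n, Fin (N p.1 p.2)
  have hA : ∀ a : Fin n, Fintype.card {x : T // x.1.1 = a} = Fintype.card {i // fα i = a} := by
    intro a
    rw [Fintype.card_congr (Equiv.subtypeSigmaEquiv (fun p : Fin n × Fin n => Fin (N p.1 p.2))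
      (fun p => p.1 = a)), Fintype.card_sigma, Fintype.card_subtype]
    rw [← fibreCard, ← hr a]
    refine Finset.sum_bij' (fun p _ => p.1.2) (fun b _ => ⟨(a, b), rfl⟩)
      (fun p _ => mem_univ _) (fun b _ => mem_univ _) ?_ (fun b _ => rfl) ?_
    · rintro ⟨⟨a', b⟩, rfl⟩ _; rfl
    · rintro ⟨⟨a', b⟩, rfl⟩ _; simp
  have hB : ∀ b : Fin n, Fintype.card {x : T // x.1.2 = b} = Fintype.card {i // fβ i = b} := by
    intro b
    rw [Fintype.card_congr (Equiv.subtypeSigmaEquiv (fun p : Fin n × Fin n => Fin (N p.1 p.2))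
      (fun p => p.2 = b)), Fintype.card_sigma, Fintype.card_subtype]
    rw [← fibreCard, ← hc b]
    refine Finset.sum_bij' (fun p _ => p.1.1) (fun a _ => ⟨(a, b), rfl⟩)
      (fun p _ => mem_univ _) (fun a _ => mem_univ _) ?_ (fun a _ => rfl) ?_
    · rintro ⟨⟨a, b'⟩, rfl⟩ _; rfl
    · rintro ⟨⟨a, b'⟩, rfl⟩ _; simp
  let eA : T ≃ Fin n := Equiv.ofFiberEquiv fun a => Fintype.equivOfCardEq (hA a)
  let eB : T ≃ Fin n := Equiv.ofFiberEquiv fun b => Fintype.equivOfCardEq (hB b)
  refine ⟨eB.symm.trans eA, ?_⟩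
  funext a b
  have h : interMat fα fβ (eB.symm.trans eA) a b = #{x : T | x.1 = (a, b)} := by
    refine Finset.card_equiv eB.symm fun i => ?_
    obtain ⟨x, rfl⟩ := eB.surjective i
    have h1 : fα (eA x) = x.1.1 := Equiv.ofFiberEquiv_map _ x
    have h2 : fβ (eB x) = x.1.2 := Equiv.ofFiberEquiv_map _ x
    rw [Finset.mem_filter, Finset.mem_filter]
    simp [h1, h2, Prod.ext_iff, and_comm]
  rw [h, ← Fintype.card_subtype,
    Fintype.card_congr (Equiv.subtypeSigmaEquiv (fun p : Fin n × Fin n => Fin (N p.1 p.2))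
      (fun p => p = (a, b))), Fintype.card_sigma]
  rw [Fintype.sum_subsingleton _ ⟨(a, b), rfl⟩]
  simp

/-- The intersection matrix as an element of `Margins`. -/
def interMargins (fα fβ : Fin n → Fin n) (σ : Equiv.Perm (Fin n)) :
    Margins (fibreCard fα) (fibreCard fβ) :=
  ⟨interMat fα fβ σ, interMat_margins fα fβ σ⟩

/-- A chosen permutation with a given intersection matrix. -/
noncomputable def marginsRep {fα fβ : Fin n → Fin n}
    (N : Margins (fibreCard fα) (fibreCard fβ)) : Equiv.Perm (Fin n) :=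
  (exists_interMat_eq N).choose

theorem interMat_marginsRep {fα fβ : Fin n → Fin n}
    (N : Margins (fibreCard fα) (fibreCard fβ)) : interMat fα fβ (marginsRep N) = N.1 :=
  (exists_interMat_eq N).choose_spec

theorem isDoubleCosetRep_labelStab (fα fβ : Fin n → Fin n) :
    IsDoubleCosetRep (labelStab fα) (labelStab fβ)
      (marginsRep (fα := fα) (fβ := fβ)) where
  surj := fun σ => by
    refine ⟨interMargins fα fβ σ, ?_⟩
    exact exists_eq_of_interMat_eq (interMat_marginsRep (interMargins fα fβ σ))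
  inj := fun x y h hh k hk e => by
    have := congrArg (interMat fα fβ) e
    rw [interMat_mul_mul hh hk, interMat_marginsRep, interMat_marginsRep] at this
    exact (Subtype.ext this).symm

end CfsgLib.KnownA.GLFlags
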