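import Cfsg.Agent.Lib.KnownA.GLFlags.CauchyDet
import Cfsg.Agent.Lib.KnownA.GLFlags.Sym
import Mathlib.RingTheory.MvPowerSeries.NoZeroDivisors

/-!
# Alternating sums of numbers of matrices with given margins
-/

set_option autoImplicit false

namespace CfsgLib.KnownA.GLFlags

open Finset MvPowerSeries Matrix

variable {n : ℕ}

local notation "V" => Fin n ⊕ Fin n
local notation "S" => MvPowerSeries (Fin n ⊕ Fin n) ℤ

/-- The exponent vector of `x^a y^b`. -/
noncomputable def expo (a b : Fin n → ℕ) : V →₀ ℕ := Finsupp.equivFunOnFinite.symm (Sum.elim a b)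

theorem expo_inl (a b : Fin n → ℕ) (i : Fin n) : expo a b (Sum.inl i) = a i := by simp [expo]

theorem expo_inr (a b : Fin n → ℕ) (i : Fin n) : expo a b (Sum.inr i) = b i := by simp [expo]

/-- The exponent vector of `x_i y_j`. -/
noncomputable def unitExpo (p : Fin n × Fin n) : V →₀ ℕ :=
  Finsupp.single (Sum.inl p.1) 1 + Finsupp.single (Sum.inr p.2) 1

theorem unitExpo_apply_inl (p : Fin n × Fin n) (a : Fin n) :
    unitExpo p (Sum.inl a) = if p.1 = a then 1 else 0 := by
  simp [unitExpo, Finsupp.single_apply]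

theorem unitExpo_apply_inr (p : Fin n × Fin n) (b : Fin n) :
    unitExpo p (Sum.inr b) = if p.2 = b then 1 else 0 := by
  simp [unitExpo, Finsupp.single_apply]

theorem smul_unitExpo_inl (k : ℕ) (p : Fin n × Fin n) :
    (k • unitExpo p) (Sum.inl p.1) = k := by
  simp [unitExpo_apply_inl]

open Classical in
/-- The series `∑ k, (x_i y_j)^k`. -/
noncomputable def geo (p : Fin n × Fin n) : S :=
  fun e => if e = e (Sum.inl p.1) • unitExpo p then 1 else 0

theorem coeff_geo (p : Fin n × Fin n) (e : V →₀ ℕ) [Decidable (e = e (Sum.inl p.1) • unitExpo p)] :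
    coeff e (geo p) = if e = e (Sum.inl p.1) • unitExpo p then 1 else 0 := by
  change geo p e = _
  unfold geo
  split_ifs <;> rfl

theorem one_sub_mul_geo (p : Fin n × Fin n) :
    (1 - X (Sum.inl p.1) * X (Sum.inr p.2) : S) * geo p = 1 := by
  classical
  have hm : (X (Sum.inl p.1) * X (Sum.inr p.2) : S) = monomial (unitExpo p) 1 := by
    rw [MvPowerSeries.X, MvPowerSeries.X, monomial_mul_monomial, one_mul]; rfl
  ext e
  rw [hm, sub_mul, one_mul, map_sub, coeff_monomial_mul, coeff_geo, coeff_one, one_mul, coeff_geo]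
  by_cases he0 : e = 0
  · subst he0
    have h1 : ¬ unitExpo p ≤ (0 : V →₀ ℕ) := fun h => by
      have := h (Sum.inl p.1)
      simp [unitExpo_apply_inl] at this
    simp [h1]
  rw [if_neg he0]
  by_cases hk : e = e (Sum.inl p.1) • unitExpo p
  · obtain ⟨k, hk'⟩ : ∃ k, e (Sum.inl p.1) = k + 1 := by
      refine Nat.exists_eq_succ_of_ne_zero fun h => he0 ?_
      rw [hk, h, zero_smul]
    rw [hk'] at hk
    subst hk
    rw [add_smul, one_smul, if_pos (le_add_self), add_tsub_cancel_right, smul_unitExpo_inl,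
      if_pos rfl, if_pos, sub_self]
    rw [Finsupp.add_apply, smul_unitExpo_inl, unitExpo_apply_inl, if_pos rfl, add_smul, one_smul]
  · rw [if_neg hk]
    by_cases hle : unitExpo p ≤ e
    · rw [if_pos hle, if_neg, sub_zero]
      intro h
      apply hk
      have h' : e = (e - unitExpo p) + unitExpo p := (tsub_add_cancel_of_le hle).symm
      rw [h] at h'
      conv_lhs => rw [h']
      rw [← succ_nsmul]
      congr 1
      conv_rhs => rw [h']
      rw [Finsupp.add_apply, smul_unitExpo_inl, unitExpo_apply_inl, if_pos rfl]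
    · rw [if_neg hle, sub_zero]

/-- Coefficients of products of geometric series. -/
theorem coeff_prod_geo {P : Type*} [Fintype P] (f : P → Fin n × Fin n) (d : V →₀ ℕ) :
    coeff d (∏ p : P, geo (f p)) =
      (Nat.card {N : P → ℕ // ∑ p, N p • unitExpo (f p) = d} : ℤ) := by
  classical
  rw [coeff_prod]
  simp only [coeff_geo]
  simp only [Finset.prod_boole]
  trans ((((univ : Finset P).finsuppAntidiag d).filter
    fun l => ∀ i ∈ (univ : Finset P), l i = (l i) (Sum.inl (f i).1) • unitExpo (f i)).card : ℤ)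
  · rw [Finset.card_filter, Nat.cast_sum]
    refine Finset.sum_congr rfl fun l _ => ?_
    split_ifs <;> first | rfl | contradiction
  congr 1
  rw [← Nat.card_eq_finsetCard]
  refine Nat.card_congr ?_
  refine
    { toFun := fun l => ⟨fun p => (l.1 p) (Sum.inl (f p).1), ?_⟩
      invFun := fun N => ⟨Finsupp.equivFunOnFinite.symm fun p => N.1 p • unitExpo (f p), ?_⟩
      left_inv := ?_
      right_inv := ?_ }
  · have hl := Finset.mem_filter.1 l.2
    have h1 := (Finset.mem_finsuppAntidiag.1 hl.1).1
    have h2 : ∀ p, l.1 p = (l.1 p) (Sum.inl (f p).1) • unitExpo (f p) := fun p =>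
      hl.2 p (Finset.mem_univ p)
    exact ((Finset.sum_congr rfl fun p _ => (h2 p).symm).trans h1)
  · refine Finset.mem_filter.2 ⟨Finset.mem_finsuppAntidiag.2 ⟨?_, Finset.subset_univ _⟩, ?_⟩
    · simpa using N.2
    · intro p _
      simp [unitExpo_apply_inl]
  · intro l
    apply Subtype.ext
    apply Finsupp.ext
    intro p
    have hl := (Finset.mem_filter.1 l.2).2 p (Finset.mem_univ p)
    simpa using hl.symm
  · intro N
    apply Subtype.ext
    funext p
    simp [unitExpo_apply_inl]

theorem coeff_all_geo (a b : Fin n → ℕ) :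
    coeff (expo a b) (∏ p : Fin n × Fin n, geo p) = (Nat.card (Margins a b) : ℤ) := by
  rw [coeff_prod_geo (fun p => p)]
  congr 1
  refine Nat.card_congr ((Equiv.curry (Fin n) (Fin n) ℕ).subtypeEquiv fun N => ?_)
  simp only [Equiv.curry_apply, Function.curry_apply]
  constructor
  · intro h
    refine ⟨fun i => ?_, fun j => ?_⟩
    · have := DFunLike.congr_fun h (Sum.inl i)
      rw [expo_inl] at this
      refine Eq.trans (Eq.symm ?_) this
      rw [Finsupp.finsetSum_apply, Fintype.sum_prod_type]
      rw [Finset.sum_eq_single i (fun m _ hm => by simp [unitExpo_apply_inl, hm])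
        (fun hh => absurd (Finset.mem_univ _) hh)]
      simp [unitExpo_apply_inl]
    · have := DFunLike.congr_fun h (Sum.inr j)
      rw [expo_inr] at this
      refine Eq.trans (Eq.symm ?_) this
      rw [Finsupp.finsetSum_apply, Fintype.sum_prod_type_right]
      rw [Finset.sum_eq_single j (fun m _ hm => by simp [unitExpo_apply_inr, hm])
        (fun hh => absurd (Finset.mem_univ _) hh)]
      simp [unitExpo_apply_inr]
  · rintro ⟨h1, h2⟩
    ext (i | j)
    · refine Eq.trans ?_ ((h1 i).trans (expo_inl a b i).symm)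
      rw [Finsupp.finsetSum_apply, Fintype.sum_prod_type]
      rw [Finset.sum_eq_single i (fun m _ hm => by simp [unitExpo_apply_inl, hm])
        (fun hh => absurd (Finset.mem_univ _) hh)]
      simp [unitExpo_apply_inl]
    · refine Eq.trans ?_ ((h2 j).trans (expo_inr a b j).symm)
      rw [Finsupp.finsetSum_apply, Fintype.sum_prod_type_right]
      rw [Finset.sum_eq_single j (fun m _ hm => by simp [unitExpo_apply_inr, hm])
        (fun hh => absurd (Finset.mem_univ _) hh)]
      simp [unitExpo_apply_inr]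

theorem coeff_graph_geo (σ : Equiv.Perm (Fin n)) (a b : Fin n → ℕ) :
    coeff (expo a b) (∏ i : Fin n, geo (σ i, i)) = if a ∘ σ = b then 1 else 0 := by
  rw [coeff_prod_geo (fun i : Fin n => (σ i, i))]
  have he : ∀ N : Fin n → ℕ, (∑ p, N p • unitExpo (σ p, p) = expo a b) ↔ (N = b ∧ a ∘ σ = b) := by
    intro N
    have hl : ∀ i, (∑ p, N p • unitExpo (σ p, p)) (Sum.inl (σ i)) = N i := fun i => by
      rw [Finsupp.finsetSum_apply, Finset.sum_eq_single i
        (fun m _ hm => by simp [unitExpo_apply_inl, hm])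
        (fun hh => absurd (Finset.mem_univ _) hh)]
      simp [unitExpo_apply_inl]
    have hr : ∀ i, (∑ p, N p • unitExpo (σ p, p)) (Sum.inr i) = N i := fun i => by
      rw [Finsupp.finsetSum_apply, Finset.sum_eq_single i
        (fun m _ hm => by simp [unitExpo_apply_inr, hm])
        (fun hh => absurd (Finset.mem_univ _) hh)]
      simp [unitExpo_apply_inr]
    constructor
    · intro h
      have hb : N = b := funext fun i => by rw [← hr i, h, expo_inr]
      exact ⟨hb, funext fun i => by
        rw [Function.comp_apply, ← expo_inl a b, ← h, hl, hb]⟩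
    · rintro ⟨rfl, hab⟩
      ext (i | i)
      · obtain ⟨i, rfl⟩ := σ.surjective i
        rw [hl, expo_inl]
        exact (congrFun hab i).symm
      · rw [hr, expo_inr]
  rw [Nat.card_congr (Equiv.subtypeEquivRight he)]
  by_cases h : a ∘ σ = b
  · rw [if_pos h]
    have : Unique {N : Fin n → ℕ // N = b ∧ a ∘ σ = b} :=
      { default := ⟨b, rfl, h⟩, uniq := fun N => Subtype.ext N.2.1 }
    simp
  · rw [if_neg h]
    have : IsEmpty {N : Fin n → ℕ // N = b ∧ a ∘ σ = b} := ⟨fun N => h N.2.2⟩
    simp

/-- The variables `x_i`. -/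
noncomputable def xv (i : Fin n) : S := X (Sum.inl i)

/-- The variables `y_j`. -/
noncomputable def yv (j : Fin n) : S := X (Sum.inr j)

theorem yv_injective : Function.Injective (yv (n := n)) := by
  classical
  intro i j h
  have := congrArg (coeff (Finsupp.single (Sum.inr i : V) 1)) h
  simp only [yv, coeff_index_single_X] at this
  by_contra hne
  simp [hne] at this

theorem prod_geo_mul_det :
    (∏ p : Fin n × Fin n, geo p) * ((vandermonde (xv (n := n))).det * (vandermonde yv).det) =
      (Matrix.of fun i j : Fin n => geo (i, j)).det := by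
  classical
  have : IsDomain (MvPowerSeries (Fin n ⊕ Fin n) ℤ) := NoZeroDivisors.to_isDomain _
  rw [← det_cauchy xv yv_injective, Fintype.prod_prod_type, ← det_mul_column]
  congr 1
  ext i j
  simp only [Matrix.of_apply]
  rw [← Finset.mul_prod_erase _ _ (Finset.mem_univ j), mul_assoc, ← Finset.prod_mul_distrib,
    Finset.prod_eq_one, mul_one]
  intro k _
  rw [mul_comm]
  exact one_sub_mul_geo (i, k)

theorem vandermonde_det_expand (v : Fin n → S) :
    (vandermonde v).det =
      ∑ κ : Equiv.Perm (Fin n), Equiv.Perm.sign κ • ∏ i, v i ^ (κ i : ℕ) := by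
  rw [← Matrix.det_transpose, Matrix.det_apply]
  rfl

theorem prod_xv_mul_prod_yv (e e' : Fin n → ℕ) :
    (∏ i, xv i ^ e i) * (∏ i, yv i ^ e' i) = monomial (expo e e') 1 := by
  simp only [xv, yv, X_pow_eq, prod_monomial, monomial_mul_monomial, Finset.prod_const_one, mul_one]
  refine congrArg (fun m => monomial m (1 : ℤ)) ?_
  apply Finsupp.ext
  rintro (i | i)
  · rw [expo_inl, Finsupp.add_apply, Finsupp.finsetSum_apply, Finsupp.finsetSum_apply,
      Finset.sum_eq_single i (fun m _ hm => by simp [Finsupp.single_apply, hm])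
        (fun hh => absurd (Finset.mem_univ _) hh)]
    simp
  · rw [expo_inr, Finsupp.add_apply, Finsupp.finsetSum_apply, Finsupp.finsetSum_apply,
      Finset.sum_eq_single (s := univ) (f := fun m : Fin n => Finsupp.single (Sum.inr m : V) (e' m) (Sum.inr i))
        i (fun m _ hm => by simp [hm]) (fun hh => absurd (Finset.mem_univ _) hh)]
    simp

theorem eq_of_strictMono_comp_perm {a b : Fin n → ℕ} (ha : StrictMono a) (hb : StrictMono b)
    {σ : Equiv.Perm (Fin n)} (h : a ∘ σ = b) : a = b ∧ σ = 1 := by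
  have hσ : StrictMono σ := fun i j hij => ha.lt_iff_lt.1 <| by
    have := hb hij
    rwa [← h] at this
  have h1 : (σ : Fin n → Fin n) = id := by
    refine (hσ.range_inj strictMono_id).1 ?_
    simp
  have h2 : σ = 1 := Equiv.ext fun i => congrFun h1 i
  exact ⟨by rw [← h, h1]; rfl, h2⟩

/-- Orthogonality of the alternating sums. -/
theorem alt_sum_margins (lam mu : Fin n → ℕ) (hl : StrictMono lam) (hm : StrictMono mu) :
    ∑ κ : Equiv.Perm (Fin n), ∑ κ' : Equiv.Perm (Fin n),
      (if (∀ i, (κ i : ℕ) ≤ lam i) ∧ (∀ i, (κ' i : ℕ) ≤ mu i) then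
        (Equiv.Perm.sign κ : ℤ) * (Equiv.Perm.sign κ' : ℤ) *
          (Nat.card (Margins (fun i => lam i - (κ i : ℕ)) (fun i => mu i - (κ' i : ℕ))) : ℤ)
      else 0) = if lam = mu then 1 else 0 := by
  classical
  have h := congrArg (coeff (expo lam mu)) (prod_geo_mul_det (n := n))
  have hR : coeff (expo lam mu) (Matrix.of fun i j : Fin n => geo (i, j)).det =
      if lam = mu then 1 else 0 := by
    rw [Matrix.det_apply, map_sum, Finset.sum_eq_single 1]
    · simp only [Equiv.Perm.sign_one, one_smul, Equiv.Perm.coe_one, id_eq, Matrix.of_apply]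
      have := coeff_graph_geo (1 : Equiv.Perm (Fin n)) lam mu
      simpa using this
    · intro σ _ hσ
      rw [Units.smul_def, map_zsmul]
      simp only [Matrix.of_apply]
      rw [coeff_graph_geo, if_neg fun hh => hσ (eq_of_strictMono_comp_perm hl hm hh).2, smul_zero]
    · exact fun hh => absurd (Finset.mem_univ _) hh
  rw [hR] at h
  rw [← h, vandermonde_det_expand, vandermonde_det_expand, Finset.sum_mul_sum, Finset.mul_sum,
    map_sum]
  refine Finset.sum_congr rfl fun κ _ => ?_
  rw [Finset.mul_sum, map_sum]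
  refine Finset.sum_congr rfl fun κ' _ => ?_
  rw [Units.smul_def, Units.smul_def, smul_mul_smul_comm, prod_xv_mul_prod_yv, mul_smul_comm,
    map_zsmul, mul_comm (∏ p, geo p), coeff_monomial_mul, smul_eq_mul, one_mul]
  have hle : expo (fun i => (κ i : ℕ)) (fun i => (κ' i : ℕ)) ≤ expo lam mu ↔
      (∀ i, (κ i : ℕ) ≤ lam i) ∧ (∀ i, (κ' i : ℕ) ≤ mu i) := by
    constructor
    · intro hh
      exact ⟨fun i => by simpa [expo] using hh (Sum.inl i),
        fun i => by simpa [expo] using hh (Sum.inr i)⟩
    · rintro ⟨h1, h2⟩ (i | i) <;> simp [expo, h1, h2]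
  by_cases hc : (∀ i, (κ i : ℕ) ≤ lam i) ∧ (∀ i, (κ' i : ℕ) ≤ mu i)
  · rw [if_pos hc, if_pos (hle.2 hc)]
    have hsub : expo lam mu - expo (fun i => (κ i : ℕ)) (fun i => (κ' i : ℕ)) =
        expo (fun i => lam i - (κ i : ℕ)) (fun i => mu i - (κ' i : ℕ)) := by
      ext (i | i) <;> simp [expo]
    rw [hsub, coeff_all_geo]
  · rw [if_neg hc, if_neg (fun hh => hc (hle.1 hh)), mul_zero]

end CfsgLib.KnownA.GLFlags
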