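import Cfsg.Agent.Lib.KnownA.GLFlags.Index
import Cfsg.Agent.Lib.KnownA.GLFlags.MarginsSum
import Cfsg.Agent.Lib.CharDeep.GenChar

/-!
# Unipotent characters of `GL_n(q)`: norm, degree, irreducibility
-/

set_option autoImplicit false

namespace CfsgLib.KnownA.GLFlags

open Finset

variable {n : ℕ} {F : Type*} [Field F]

theorem sum_shift (ν : Fin n → ℕ) (hs : ∑ i, ν i = n) (κ : Equiv.Perm (Fin n))
    (hκ : ∀ i : Fin n, (κ i : ℕ) ≤ ν i + i) :
    ∑ i : Fin n, (ν i + (i : ℕ) - (κ i : ℕ)) = n := by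
  have h : ∑ i : Fin n, (ν i + (i : ℕ) - (κ i : ℕ)) + ∑ i : Fin n, (κ i : ℕ) =
      ∑ i : Fin n, (ν i + (i : ℕ)) := by
    rw [← Finset.sum_add_distrib]
    exact Finset.sum_congr rfl fun i _ => Nat.sub_add_cancel (hκ i)
  rw [Equiv.sum_comp κ (fun i : Fin n => (i : ℕ)), Finset.sum_add_distrib, hs] at h
  omega

theorem strictMono_shift {ν : Fin n → ℕ} (hm : Monotone ν) :
    StrictMono fun i : Fin n => ν i + (i : ℕ) :=
  fun _ _ h => add_lt_add_of_le_of_lt (hm h.le) h

variable [Fintype F] [DecidableEq F]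

theorem isGeneralizedCharacter_unipotent (ν : Fin n → ℕ) :
    Cfsg.IsGeneralizedCharacter (GL (Fin n) F) (Cfsg.unipotentCharacterGL n F ν) := by
  classical
  let χ : Equiv.Perm (Fin n) → GL (Fin n) F → ℂ := fun κ =>
    Cfsg.fixedPointCharacter (Cfsg.parabolicGL n F fun i => ν i + (i : ℕ) - (κ i : ℕ))
  let s : ℤˣ → Finset (Equiv.Perm (Fin n)) := fun u =>
    univ.filter fun κ => (∀ i : Fin n, (κ i : ℕ) ≤ ν i + (i : ℕ)) ∧ Equiv.Perm.sign κ = u
  refine ⟨∑ κ ∈ s 1, χ κ, ∑ κ ∈ s (-1), χ κ,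
    CfsgLib.Char.isCharacter_sum _ _ fun κ _ => fixedPointCharacter_isCharacter _,
    CfsgLib.Char.isCharacter_sum _ _ fun κ _ => fixedPointCharacter_isCharacter _, ?_⟩
  funext g
  simp only [Pi.sub_apply, Finset.sum_apply, s, Finset.sum_filter, ← Finset.sum_sub_distrib]
  refine Finset.sum_congr rfl fun κ _ => ?_
  by_cases hc : ∀ i : Fin n, (κ i : ℕ) ≤ ν i + (i : ℕ)
  · rcases Int.units_eq_one_or (Equiv.Perm.sign κ) with h | h <;>
      simp [hc, h, χ]
  · simp [hc]

theorem classInner_unipotent {ν ν' : Fin n → ℕ} (hm : Monotone ν) (hs : ∑ i, ν i = n)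
    (hm' : Monotone ν') (hs' : ∑ i, ν' i = n) :
    Cfsg.classInner (Cfsg.unipotentCharacterGL n F ν) (Cfsg.unipotentCharacterGL n F ν') =
      if ν = ν' then 1 else 0 := by
  classical
  have he : ∀ μ : Fin n → ℕ, Cfsg.unipotentCharacterGL n F μ =
      ∑ κ : Equiv.Perm (Fin n),
        (if ∀ i : Fin n, (κ i : ℕ) ≤ μ i + (i : ℕ) then ((Equiv.Perm.sign κ : ℤ) : ℂ) else 0) •
          Cfsg.fixedPointCharacter (Cfsg.parabolicGL n F fun i => μ i + (i : ℕ) - (κ i : ℕ)) := by
    intro μ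
    funext g
    rw [Finset.sum_apply]
    refine Finset.sum_congr rfl fun κ _ => ?_
    simp [ite_mul]
  have halt := alt_sum_margins _ _ (strictMono_shift hm) (strictMono_shift hm')
  have heq : ((fun i : Fin n => ν i + (i : ℕ)) = fun i : Fin n => ν' i + (i : ℕ)) ↔ ν = ν' :=
    ⟨fun h => funext fun i => by have := congrFun h i; simpa using this, fun h => by rw [h]⟩
  have hcast := congrArg (Int.cast : ℤ → ℂ) halt
  rw [apply_ite (Int.cast : ℤ → ℂ), Int.cast_one, Int.cast_zero] at hcast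
  simp only [heq] at hcast
  rw [← hcast, he ν, he ν', CfsgLib.Char.classInner_sum_left, Int.cast_sum]
  refine Finset.sum_congr rfl fun κ _ => ?_
  rw [CfsgLib.Char.classInner_sum_right, Int.cast_sum]
  refine Finset.sum_congr rfl fun κ' _ => ?_
  rw [CfsgLib.Char.classInner_smul_left, CfsgLib.Char.classInner_smul_right]
  by_cases h : ∀ i : Fin n, (κ i : ℕ) ≤ ν i + (i : ℕ)
  · by_cases h' : ∀ i : Fin n, (κ' i : ℕ) ≤ ν' i + (i : ℕ)
    · rw [if_pos h, if_pos h', if_pos ⟨h, h'⟩,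
        classInner_parabolic _ _ (sum_shift ν hs κ h) (sum_shift ν' hs' κ' h')]
      simp [mul_assoc]
    · simp [h']
  · simp [h]

omit [DecidableEq F] in
theorem qint_split (q : ℕ) {k a : ℕ} (h : k ≤ a) :
    qint q a = qint q k + q ^ k * qint q (a - k) := by
  obtain ⟨b, rfl⟩ : ∃ b, a = k + b := ⟨a - k, by omega⟩
  rw [Nat.add_sub_cancel_left, qint, qint, qint, Finset.sum_range_add, Finset.mul_sum]
  simp [pow_add]

omit [Fintype F] [DecidableEq F] in
theorem qfac_mul_prod (q a : ℕ) : ∀ j, j ≤ a →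
    qfac q (a - j) * ∏ k ∈ Finset.range j, qint q (a - k) = qfac q a
  | 0, _ => by simp
  | j + 1, h => by
    rw [Finset.prod_range_succ, ← qfac_mul_prod q a j (by omega),
      show a - j = a - (j + 1) + 1 from by omega, qfac_succ]
    ring

theorem sum_range_choose_two (m : ℕ) :
    ∑ j ∈ Finset.range m, j.choose 2 = m.choose 3 := by
  induction m with
  | zero => rfl
  | succ m ih => rw [Finset.sum_range_succ, ih, Nat.choose_succ_succ', add_comm]

/-- The polynomial value `∏_{k < j} (Q(a) - Q(k))`. -/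
theorem prod_qint_sub (q a j : ℕ) :
    ∏ k ∈ Finset.range j, ((qint q a : ℂ) - qint q k) =
      if j ≤ a then (q : ℂ) ^ j.choose 2 * ∏ k ∈ Finset.range j, (qint q (a - k) : ℂ) else 0 := by
  split_ifs with h
  · rw [Nat.choose_two_right, ← Finset.sum_range_id, ← Finset.prod_pow_eq_pow_sum,
      ← Finset.prod_mul_distrib]
    refine Finset.prod_congr rfl fun k hk => ?_
    rw [qint_split q (k := k) (a := a) (by have := Finset.mem_range.1 hk; omega)]
    push_cast
    ring
  · exact Finset.prod_eq_zero (Finset.mem_range.2 (not_le.1 h)) (sub_self _)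

theorem degree_unipotent {ν : Fin n → ℕ} (hs : ∑ i, ν i = n) :
    Cfsg.unipotentCharacterGL n F ν 1 * (Fintype.card F : ℂ) ^ n.choose 3 *
        ∏ i : Fin n, (qfac (Fintype.card F) (ν i + i) : ℂ) =
      (qfac (Fintype.card F) n : ℂ) *
        ∏ i : Fin n, ∏ j ∈ Finset.Ioi i,
          ((qint (Fintype.card F) (ν j + j) : ℂ) - qint (Fintype.card F) (ν i + i)) := by
  classical
  set q := Fintype.card F with hq
  let lam : Fin n → ℕ := fun i => ν i + i
  let p : Fin n → Polynomial ℂ := fun j =>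
    ∏ k ∈ Finset.range (j : ℕ), (Polynomial.X - Polynomial.C (qint q k : ℂ))
  have hdet : (Matrix.vandermonde fun i => (qint q (lam i) : ℂ)).det =
      (Matrix.of fun i j : Fin n => (p j).eval (qint q (lam i) : ℂ)).det := by
    refine Matrix.det_eval_matrixOfPolynomials_eq_det_vandermonde _ p (fun j => ?_) fun j => ?_
    · simp only [p]
      rw [Polynomial.natDegree_prod _ _ fun k _ => Polynomial.X_sub_C_ne_zero _,
        Finset.sum_congr rfl fun k _ => Polynomial.natDegree_X_sub_C _]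
      simp
    · exact Polynomial.monic_prod_of_monic _ _ fun k _ => Polynomial.monic_X_sub_C _
  rw [Matrix.det_vandermonde] at hdet
  rw [hdet, ← Matrix.det_transpose, Matrix.det_apply, Cfsg.unipotentCharacterGL, Finset.sum_mul,
    Finset.sum_mul, Finset.mul_sum]
  refine Finset.sum_congr rfl fun κ _ => ?_
  simp only [Matrix.transpose_apply, Matrix.of_apply, p, Polynomial.eval_prod, Polynomial.eval_sub,
    Polynomial.eval_X, Polynomial.eval_C, prod_qint_sub]
  by_cases hc : ∀ i : Fin n, (κ i : ℕ) ≤ ν i + (i : ℕ)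
  · rw [if_pos hc, Finset.prod_congr rfl fun i _ => if_pos (hc i), Finset.prod_mul_distrib,
      Equiv.prod_comp κ (fun j : Fin n => (q : ℂ) ^ (j : ℕ).choose 2),
      Finset.prod_pow_eq_pow_sum, Fin.sum_univ_eq_sum_range (fun j => j.choose 2),
      sum_range_choose_two]
    have hidx := parabolic_index (F := F) (fun i => ν i + (i : ℕ) - (κ i : ℕ)) (sum_shift ν hs κ hc)
    have hfix : Cfsg.fixedPointCharacter
        (Cfsg.parabolicGL n F fun i => ν i + (i : ℕ) - (κ i : ℕ)) (1 : GL (Fin n) F) =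
        (Nat.card (GL (Fin n) F ⧸ Cfsg.parabolicGL n F fun i => ν i + (i : ℕ) - (κ i : ℕ)) : ℂ) := by
      rw [Cfsg.fixedPointCharacter]
      congr 1
      exact Nat.card_congr (Equiv.subtypeUnivEquiv fun x => one_smul _ x)
    have hfac : ∀ i : Fin n, (qfac q (ν i + i) : ℂ) =
        (qfac q (ν i + (i : ℕ) - (κ i : ℕ)) : ℂ) *
          ∏ k ∈ Finset.range (κ i : ℕ), (qint q (ν i + (i : ℕ) - k) : ℂ) := by
      intro i
      rw [← qfac_mul_prod q (ν i + i) (κ i) (hc i)]
      push_cast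
      ring
    rw [hfix, Finset.prod_congr rfl fun i _ => hfac i, Finset.prod_mul_distrib, ← hidx]
    rw [Units.smul_def, zsmul_eq_mul]
    push_cast
    simp only [lam]
    ring
  · rw [if_neg hc]
    obtain ⟨i, hi⟩ := not_forall.1 hc
    have hz : (∏ i : Fin n, if (κ i : ℕ) ≤ lam i then
        (q : ℂ) ^ (κ i : ℕ).choose 2 * ∏ k ∈ Finset.range (κ i : ℕ), (qint q (lam i - k) : ℂ)
        else 0) = 0 := Finset.prod_eq_zero (i := i) (Finset.mem_univ i) (if_neg hi)
    simp [hz]

theorem unipotent_one_pos {ν : Fin n → ℕ} (hm : Monotone ν) (hs : ∑ i, ν i = n) :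
    0 < (Cfsg.unipotentCharacterGL n F ν 1).re := by
  set q := Fintype.card F with hq
  have hq0 : 0 < q := Fintype.card_pos
  have hlt : ∀ i j : Fin n, i < j → qint q (ν i + i) < qint q (ν j + j) := by
    intro i j hij
    have h : ν i + (i : ℕ) < ν j + (j : ℕ) := strictMono_shift hm hij
    rw [qint_split q (k := ν i + i) (a := ν j + j) h.le]
    exact Nat.lt_add_of_pos_right (Nat.mul_pos (Nat.pow_pos hq0) (qint_pos hq0 (by omega)))
  let N : ℕ := qfac q n * ∏ i : Fin n, ∏ j ∈ Finset.Ioi i,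
    (qint q (ν j + j) - qint q (ν i + i))
  let D : ℕ := q ^ n.choose 3 * ∏ i : Fin n, qfac q (ν i + i)
  have hN : 0 < N := Nat.mul_pos (qfac_pos hq0 n) (Finset.prod_pos fun i _ => Finset.prod_pos
    fun j hj => Nat.sub_pos_of_lt (hlt i j (Finset.mem_Ioi.1 hj)))
  have hD : 0 < D := Nat.mul_pos (Nat.pow_pos hq0) (Finset.prod_pos fun i _ => qfac_pos hq0 _)
  have h : Cfsg.unipotentCharacterGL n F ν 1 * (D : ℂ) = (N : ℂ) := by
    have hd := degree_unipotent (F := F) hs
    simp only [D, N, Nat.cast_mul, Nat.cast_pow, Nat.cast_prod, ← mul_assoc]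
    rw [hd]
    congr 1
    refine Finset.prod_congr rfl fun i _ => Finset.prod_congr rfl fun j hj => ?_
    rw [Nat.cast_sub (hlt i j (Finset.mem_Ioi.1 hj)).le]
  have h' : (Cfsg.unipotentCharacterGL n F ν 1).re * (D : ℝ) = (N : ℝ) := by
    have := congrArg Complex.re h
    simpa using this
  have hN' : (0 : ℝ) < N := by exact_mod_cast hN
  have hD' : (0 : ℝ) < D := by exact_mod_cast hD
  exact (mul_pos_iff_of_pos_right hD').1 (h' ▸ hN')

theorem isIrr_unipotent {ν : Fin n → ℕ} (hm : Monotone ν) (hs : ∑ i, ν i = n) :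
    Cfsg.IsIrrCharacter (GL (Fin n) F) (Cfsg.unipotentCharacterGL n F ν) :=
  CfsgLib.CharDeep.GenChar.isIrrCharacter_of_norm_one (isGeneralizedCharacter_unipotent ν)
    (by rw [classInner_unipotent hm hs hm hs, if_pos rfl]) (unipotent_one_pos hm hs)

end CfsgLib.KnownA.GLFlags
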